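import Groth.Agent.Lib.EtSite.PushStalk
import Groth.Agent.Lib.EtGerm.Univ

/-!
# Etale local splitting over a finite morphism, and gluing over disjoint covers in big sites
-/

set_option autoImplicit false

universe u

open CategoryTheory CategoryTheory.Limits AlgebraicGeometry Opposite

noncomputable section

namespace Groth.Agent.Lib.FppfEt.Split

open Groth.Agent.Lib.EtSite Groth.Agent.Lib.EtSite.Basic Groth.Agent.Lib.EtSite.PushStalk

/-- Etale neighbourhoods chosen at the points of a geometric fibre of a finite morphism are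
dominated by a disjoint open cover after an etale localisation of the base. -/
theorem exists_split {Y T : Scheme.{u}} (y : Y ⟶ T) [IsFinite y] {Ω : Type u} [Field Ω]
    [IsAlgClosed Ω] (η : Spec (CommRingCat.of Ω) ⟶ T)
    (E : {ξ : Spec (CommRingCat.of Ω) ⟶ Y // ξ ≫ y = η} → Scheme.{u}) (e : ∀ ξ, E ξ ⟶ Y)
    (he : ∀ ξ, Etale (e ξ)) (q : ∀ ξ, Spec (CommRingCat.of Ω) ⟶ E ξ) (hq : ∀ ξ, q ξ ≫ e ξ = ξ.1) :
    ∃ (T' : Scheme.{u}) (g : T' ⟶ T) (p : Spec (CommRingCat.of Ω) ⟶ T') (hp : p ≫ g = η)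
      (_ : Etale g) (n : ℕ) (D : Fin n → Scheme.{u}) (o : ∀ j, D j ⟶ pullback g y)
      (i : Fin n → {ξ : Spec (CommRingCat.of Ω) ⟶ Y // ξ ≫ y = η}) (b : ∀ j, D j ⟶ E (i j)),
      (∀ j, IsOpenImmersion (o j)) ∧ (∀ x, ∃ (j : Fin n) (d : D j), (o j).base d = x) ∧
      (∀ (j k : Fin n) (d : D j) (d' : D k), (o j).base d = (o k).base d' → j = k) ∧
      (∀ j, b j ≫ e (i j) = o j ≫ pullback.snd g y) ∧
      ∀ ξ, ∃ (j : Fin n) (h : i j = ξ) (l : Spec (CommRingCat.of Ω) ⟶ D j),
        l ≫ o j = pullback.lift p ξ.1 (hp.trans ξ.2.symm) ∧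
          l ≫ b j = q ξ ≫ eqToHom (congrArg E h.symm) := by
  classical
  let top := EtCoh.top T
  let p₀ : (Scheme.pointSmallEtale η).fiber.obj top := mkFiber η top η (Category.comp_id _)
  let U : {ξ : Spec (CommRingCat.of Ω) ⟶ Y // ξ ≫ y = η} → Y.Etale := fun ξ =>
    MorphismProperty.Over.mk ⊤ (e ξ) (he ξ)
  let g : ∀ ξ, U ξ ⟶ (EtCoh.bc y).obj top := fun ξ =>
    MorphismProperty.Over.homMk (pullback.lift ((U ξ).hom ≫ y) (U ξ).hom (Category.comp_id _))
      (pullback.lift_snd _ _ _)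
  obtain ⟨V', a, p', -, n, D, o, i, b, hD, hb, hW⟩ :=
    IntegralRefine.exists_refinement y top p₀ U g (fun ξ => {q ξ})
    (fun ξ l hl => by
      have : Etale (g ξ).left := Fiber.etale_left (g ξ)
      have : LocallyQuasiFinite (g ξ).left := FieldExt.locallyQuasiFinite_of_etale _
      have : LocallyQuasiFinite (pullback.fst top.hom y) :=
        MorphismProperty.pullback_fst (P := @LocallyQuasiFinite) _ _ inferInstance
      have : LocallyQuasiFinite ((g ξ).left ≫ pullback.fst top.hom y) :=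
        MorphismProperty.comp_mem @LocallyQuasiFinite _ _ ‹LocallyQuasiFinite (g ξ).left› ‹_›
      have := FieldExt.discreteTopology_of_locallyQuasiFinite
        (pullback.snd ((g ξ).left ≫ pullback.fst top.hom y) (fiberHom p₀))
      refine ⟨{z | ∀ s : Spec (CommRingCat.of Ω) ⟶
          pullback ((g ξ).left ≫ pullback.fst top.hom y) (fiberHom p₀),
          s ≫ pullback.snd _ _ = 𝟙 _ → s.base default = z → s ≫ pullback.fst _ _ = q ξ},
        isOpen_discrete _, fun s hs hsl s' hs' h => ?_, fun s hs hs' => hs' s hs rfl⟩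
      have h1 := FieldExt.eq_comp_section hs s' h
      rw [hs', Category.id_comp] at h1
      rw [h1, hsl]
      exact hl)
    (fun x hx => by
      have hξ := snd_comp_eq y hx
      refine ⟨⟨_, hξ⟩, _, rfl, pullback.hom_ext ?_ ?_⟩
      · refine (Category.assoc _ _ _).trans ((_ ≫= pullback.lift_fst _ _ _).trans ?_)
        refine (Category.assoc _ _ _).symm.trans ((congrArg (· ≫ y) (hq _)).trans ?_)
        exact hξ.trans hx.symm
      · exact (Category.assoc _ _ _).trans ((_ ≫= pullback.lift_snd _ _ _).trans (hq _)))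
  have hw : ∀ j, (b j).left ≫ e (i j) = (o j).left ≫ pullback.snd V'.hom y := fun j =>
    (Over.w (b j).hom).trans (Over.w (o j).hom).symm
  refine ⟨V'.left, V'.hom, fiberHom p', fiberHom_comp p', V'.prop, n, fun j => (D j).left,
    fun j => (o j).left, i, fun j => (b j).left, hD.isOpenImmersion, hD.exists_eq, hD.disjoint,
    hw, fun ξ => ?_⟩
  obtain ⟨j, l, hl⟩ := hD.exists_fac (pullback.lift (fiberHom p') ξ.1
    ((fiberHom_comp p').trans ξ.2.symm) : Spec (CommRingCat.of Ω) ⟶ ((EtCoh.bc y).obj V').left)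
  have hmem : l ≫ (b j).left = q (i j) := hW j l
    ((Category.assoc _ _ _).symm.trans ((congrArg (· ≫ pullback.fst V'.hom y) hl).trans
      (pullback.lift_fst _ _ _)))
  have hξ : (i j).1 = ξ.1 :=
    (hq (i j)).symm.trans ((congrArg (· ≫ e (i j)) hmem.symm).trans ((Category.assoc _ _ _).trans
      ((congrArg (l ≫ ·) (hw j)).trans ((Category.assoc _ _ _).symm.trans
        ((congrArg (· ≫ pullback.snd V'.hom y) hl).trans (pullback.lift_snd _ _ _))))))
  obtain rfl : i j = ξ := Subtype.ext hξ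
  exact ⟨j, rfl, l, hl, hmem.trans (Category.comp_id _).symm⟩

variable (K : Precoverage Scheme.{u}) {S : Scheme.{u}} [BigSite.AEtCont K S]

/-- Sections glue over disjoint open covers. -/
theorem exists_glue (hK : Scheme.etalePrecoverage ≤ K) (L : BigSite.Ab K S) {W : Over S} {n : ℕ}
    (Z : Fin n → Over S) (o : ∀ j, Z j ⟶ W) (ho : ∀ j, IsOpenImmersion (o j).left)
    (hcov : ∀ x, ∃ (j : Fin n) (d : (Z j).left), (o j).left.base d = x)
    (hdisj : ∀ (j k : Fin n) (d : (Z j).left) (d' : (Z k).left),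
      (o j).left.base d = (o k).left.base d' → j = k) (x : ∀ j, L.obj.obj (op (Z j))) :
    ∃ s : L.obj.obj (op W), ∀ j, L.obj.map (o j).op s = x j := by
  let ι : Type (u + 1) := ULift.{u + 1} (Fin n)
  have hS := (Presieve.isSheafFor_arrows_iff (L.obj ⋙ forget AddCommGrpCat.{u + 1})
    (fun t : ι => o t.down)).1 ((Presieve.isSheafFor_iff_generate _).2
      (((isSheaf_iff_isSheaf_of_type _ _).1 (Presheaf.isSheaf_comp_of_isSheaf _ L.obj
        (forget AddCommGrpCat.{u + 1}) L.property)) _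
        (EtGerm.Univ.ofArrows_mem K hK (fun t : ι => Z t.down) _
          (fun t => by have := ho t.down; infer_instance)
          fun z => by obtain ⟨j, d, hd⟩ := hcov z; exact ⟨⟨j⟩, d, hd⟩)))
  obtain ⟨s, hs, -⟩ := hS (fun t => x t.down) fun ⟨i⟩ ⟨j⟩ Q gi gj e => by
    by_cases hij : i = j
    · subst hij
      have := ho i
      obtain rfl : gi = gj :=
        Over.OverMorphism.ext ((cancel_mono (o i).left).1 (congrArg Over.Hom.left e))
      rfl
    · have : IsEmpty Q.left := ⟨fun z => hij (hdisj i j _ _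
        (congrArg (fun φ : Q ⟶ W => φ.left.base z) e))⟩
      exact EtGerm.Univ.sections_ext K hK L (ι := PEmpty.{u + 2}) (fun i => i.elim) (fun i => i.elim)
        (fun i => i.elim) (fun z => isEmptyElim z) _ _ fun i => i.elim
  exact ⟨s, fun j => hs ⟨j⟩⟩

end Groth.Agent.Lib.FppfEt.Split
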