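import Groth.Agent.Lib.FppfEt.LocAcyclic
import Mathlib.AlgebraicGeometry.Morphisms.UniversallyClosed

/-!
# Inverse images from the small etale site have etale-locally exact Cech complexes
-/

set_option autoImplicit false

universe u

open CategoryTheory CategoryTheory.Limits AlgebraicGeometry Opposite

noncomputable section

namespace Groth.Agent.Lib.FppfEt.Base

open Groth.Agent.Lib.FppfEt.Nerve Groth.Agent.Lib.FppfEt.LocAcyclic
  Groth.Agent.Lib.EtGerm.Basic Groth.Agent.Lib.EtGerm.Univ Groth.Agent.Lib.EtSite.Basic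

variable {X : Scheme.{u}} (F : EtCoh.Ab X)

/-- The inverse image to the fppf site, as locally representable functions. -/
abbrev PF : EtFppf.AbF X :=
  shP Scheme.fppfPrecoverage F Scheme.fppfPrecoverage_le_fpqcPrecoverage

/-- A locally representable function vanishing at a geometric point vanishes near its image. -/
theorem exists_open_zero {Y : Over X} (σ : sect F Y) (x : GPt Y) (hx : σ.1 x = 0) :
    ∃ O : Set Y.left, IsOpen O ∧ x.ξ.base default ∈ O ∧
      ∀ x' : GPt Y, x'.ξ.base default ∈ O → σ.1 x' = 0 := by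
  obtain ⟨V, c, hc, W, b, hb, a, ⟨v, hv⟩, hrep⟩ := σ.2 (x.ξ.base default)
  obtain ⟨l, hl, hlv⟩ := Scheme.exists_fac_of_etale_of_isSepClosed c x.ξ v hv
  refine ⟨c.base '' (b.base ⁻¹' agree F W a 0),
    c.isOpenMap _ ((isOpen_agree F W a 0).preimage b.continuous), ⟨v, ?_, hv⟩, ?_⟩
  · have h1 : germ F x.η W (ptOf hb x.comm l hl) a = 0 :=
      (hrep x.Ω x.η x.ξ x.comm l hl).symm.trans hx
    rw [← map_zero (germ F x.η W (ptOf hb x.comm l hl)), germ_eq_iff] at h1
    rw [← hlv]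
    exact h1
  · rintro x' ⟨w, hw, hwx⟩
    obtain ⟨l', hl', hlw⟩ := Scheme.exists_fac_of_etale_of_isSepClosed c x'.ξ w hwx
    refine (hrep x'.Ω x'.η x'.ξ x'.comm l' hl').trans ?_
    rw [← map_zero (germ F x'.η W (ptOf hb x'.comm l' hl')), germ_eq_iff]
    rw [← hlw] at hw
    exact hw

section point

variable {T : Over X} {Ω : Type u} [Field Ω] [IsSepClosed Ω]
  (η : Spec (CommRingCat.of Ω) ⟶ T.left)

/-- The spectrum of the field, over `X`. -/
abbrev pt : Over X := Over.mk (η ≫ T.hom)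

/-- The value at the point. -/
def ev0 : (PF F).obj.obj (op (pt η)) →+ Stk F (η ≫ T.hom) where
  toFun σ := (σ : sect F (pt η)).1 ⟨Ω, η ≫ T.hom, 𝟙 _, Category.id_comp _⟩
  map_zero' := rfl
  map_add' _ _ := rfl

theorem ev0_map {Y : Over X} (h : pt η ⟶ Y) (σ : (PF F).obj.obj (op Y)) :
    ev0 F η ((PF F).obj.map h.op σ) =
      (σ : sect F Y).1 ⟨Ω, η ≫ T.hom, h.left, Over.w h⟩ :=
  EtGerm.Glue.germs_congr F (σ : sect F Y).1 (Category.id_comp _) _ _

end point

/-- Values of a cocycle on cones. -/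
theorem evK_eq_sum {G : (Over X)ᵒᵖ ⥤ AddCommGrpCat.{u + 1}} {T V : Over X} {v : V ⟶ T} {n : ℕ}
    (c : Kn v (n + 2) ⟶ G) (hc : dv v (n + 1) ≫ c = 0) {Z : Over X}
    (s : CechPsh.Nerve.T (Uf v) (Fin (n + 2)) Z) :
    evK c s = ∑ a : Fin (n + 2),
      (-1 : ℤ) ^ (a : ℕ) • evK c (CechPsh.Nerve.cone (CechPsh.Nerve.reindex a.succAbove s)) := by
  have h : ∑ a : Fin (n + 3), (-1 : ℤ) ^ (a : ℕ) •
      evK c (CechPsh.Nerve.reindex a.succAbove (CechPsh.Nerve.cone s)) = 0 :=
    (evK_dv (n + 1) c (CechPsh.Nerve.cone s)).symm.trans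
      (congrArg (fun c => evK c (CechPsh.Nerve.cone s)) hc)
  rw [Fin.sum_univ_succ, Fin.succAbove_zero, CechPsh.Nerve.cone_face_zero] at h
  simp only [Fin.val_zero, pow_zero, one_smul, CechPsh.Nerve.cone_face_succ, Fin.val_succ, pow_succ,
    mul_neg, mul_one, neg_smul, Finset.sum_neg_distrib] at h
  exact sub_eq_zero.1 ((sub_eq_add_neg _ _).trans h)

/-- Inverse images from the small etale site are locally acyclic. -/
theorem la_PF : LA (PF F) := by
  classical
  intro T V v hv n c hc t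
  obtain ⟨P, hP⟩ := exists_pow (v := v) (n + 1) @IsFinite hv.finite
  have : IsFinite P.π.left := hP
  let η := EtSite.Push.algPoint T.left t
  let Ω := AlgebraicClosure (T.left.residueField t)
  let β : CechPsh.Nerve.T (Uf v) (Fin (n + 1)) (pt η) → Stk F (η ≫ T.hom) :=
    fun r => ev0 F η (evK c (CechPsh.Nerve.cone r))
  let fib := {ξ : Spec (CommRingCat.of Ω) ⟶ P.obj.left // ξ ≫ P.π.left = η}
  let ξo : fib → (pt η ⟶ P.obj) := fun ξ => Over.homMk ξ.1 (by
    change ξ.1 ≫ P.obj.hom = η ≫ T.hom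
    rw [← Over.w P.π, ← Category.assoc, ξ.2])
  choose W p a ha using fun ξ : fib =>
    exists_germ F (β (CechPsh.Nerve.res (ξo ξ) P.univ))
  have hq : ∀ ξ : fib, ξ.1 ≫ P.obj.hom = fiberHom (p ξ) ≫ (W ξ).hom := fun ξ =>
    (Over.w (ξo ξ)).trans (fiberHom_comp (p ξ)).symm
  obtain ⟨U, u, p', hp', hu, m, D, o, idx, b, ho, hcov, hdisj, hb, hfib⟩ :=
    Split.exists_split P.π.left η (fun ξ => pullback P.obj.hom (W ξ).hom)
      (fun ξ => pullback.fst P.obj.hom (W ξ).hom)
      (fun ξ => have : Etale (W ξ).hom := (W ξ).prop; inferInstance)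
      (fun ξ => pullback.lift ξ.1 (fiberHom (p ξ)) (hq ξ)) fun ξ => pullback.lift_fst _ _ _
  let T₁ : Over X := Over.mk (u ≫ T.hom)
  let g : T₁ ⟶ T := Over.homMk u rfl
  let φ := bc v g
  let Z : Fin m → Over X := fun j => Over.mk (o j ≫ (bcObj P.π g).hom)
  let oj : ∀ j, Z j ⟶ bcObj P.π g := fun j => Over.homMk (o j) rfl
  let bj : ∀ j, Z j ⟶ (EtFppf.a X).obj (W (idx j)) := fun j =>
    Over.homMk (b j ≫ pullback.snd _ _) (by
      change (b j ≫ pullback.snd P.obj.hom (W (idx j)).hom) ≫ (W (idx j)).hom =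
        o j ≫ pullback.fst u P.π.left ≫ u ≫ T.hom
      rw [Category.assoc, ← pullback.condition, ← Category.assoc, hb, Category.assoc, ← Over.w P.π,
        pullback.condition_assoc])
  obtain ⟨s, hs⟩ := Split.exists_glue Scheme.fppfPrecoverage
    BigSite.etalePrecoverage_le_fppfPrecoverage (PF F) Z oj ho hcov hdisj
    fun j => (presheaf F).map (bj j).op (ofSection F (W (idx j)) (a (idx j)))
  let b₁ : Kn (bcMap v g) (n + 1) ⟶ (PF F).obj := ofElemBC φ P s
  let c₁ : Kn (bcMap v g) (n + 2) ⟶ (PF F).obj := φ.kmap _ ≫ c - dv (bcMap v g) n ≫ b₁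
  let po : pt η ⟶ T₁ := Over.homMk p' ((Category.assoc _ _ _).symm.trans
    (congrArg (· ≫ T.hom) hp'))
  have hb₁ : ∀ r : CechPsh.Nerve.T (Uf (bcMap v g)) (Fin (n + 1)) (pt η), r.1.1 = po →
      ev0 F η (evK b₁ r) = β (φ.simp r) := by
    intro r hr
    obtain ⟨h, h₁, h₂⟩ := exists_bc_classify φ P r
    have hξ : (h ≫ (bc P.π g).gV).left ≫ P.π.left = η := by
      have e := congrArg (fun s => Over.Hom.left s.1.1) h₂
      change ((h ≫ (bc P.π g).gV) ≫ P.π).left = (r.1.1 ≫ g).left at e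
      rw [Over.comp_left _ _ _ _ _, hr, Over.comp_left _ _ _ _ _] at e
      exact e.trans hp'
    let ξ : fib := ⟨_, hξ⟩
    have hξo : ξo ξ = h ≫ (bc P.π g).gV := Over.OverMorphism.ext rfl
    obtain ⟨j, hj, l, hl, hlb⟩ := hfib ξ
    rw [← h₂]
    change ev0 F η (evK b₁ r) = β (CechPsh.Nerve.res (h ≫ (bc P.π g).gV) P.univ)
    rw [← hξo, ← ha ξ]
    clear_value ξ
    subst hj
    rw [evK_ofElemBC φ P s r h h₁ h₂]
    have hh : h.left = pullback.lift p' (idx j).1 (hp'.trans (idx j).2.symm) := by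
      refine pullback.hom_ext ?_ ?_
      · exact (congrArg Over.Hom.left (h₁.trans hr) :).trans (pullback.lift_fst _ _ _).symm
      · exact (congrArg Over.Hom.left hξo).symm.trans (pullback.lift_snd _ _ _).symm
    let lo : pt η ⟶ Z j := Over.homMk l (by
      change l ≫ o j ≫ (bcObj P.π g).hom = η ≫ T.hom
      rw [← Category.assoc, hl, ← hh]
      exact Over.w h)
    have e : h = lo ≫ oj j := Over.OverMorphism.ext (hh.trans hl.symm)
    refine (congrArg (fun q => ev0 F η ((PF F).obj.map (Quiver.Hom.op q) s)) e).trans ?_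
    refine (congrArg (ev0 F η) ((map_map _ lo (oj j) s).symm.trans
      ((congrArg _ (hs j)).trans (map_map _ _ _ _)))).trans ?_
    refine (ev0_map F η _ _).trans ?_
    refine congrArg (fun q => germ F _ (W (idx j)) q (a (idx j))) (Over.OverMorphism.ext ?_)
    change (lo ≫ bj j).left = fiberHom (p (idx j))
    rw [Over.comp_left _ _ _ _ _]
    change l ≫ b j ≫ pullback.snd _ _ = _
    rw [← Category.assoc, hlb]
    simp only [eqToHom_refl, Category.comp_id]
    exact pullback.lift_snd _ _ _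
  have hzero : ∀ r : CechPsh.Nerve.T (Uf (bcMap v g)) (Fin (n + 2)) (pt η), r.1.1 = po →
      ev0 F η (evK c₁ r) = 0 := by
    intro r hr
    change ev0 F η (evK (φ.kmap _ ≫ c) r - evK (dv (bcMap v g) n ≫ b₁) r) = 0
    rw [map_sub, φ.evK_kmap, evK_eq_sum c hc, evK_dv, map_sum, map_sum, ← Finset.sum_sub_distrib]
    refine Finset.sum_eq_zero fun k _ => ?_
    rw [map_zsmul, map_zsmul, hb₁ (CechPsh.Nerve.reindex k.succAbove r) hr, sub_eq_zero]
    rfl
  have hcov₁ := hv.bc g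
  obtain ⟨Q, hQ⟩ := exists_pow (v := bcMap v g) (n + 2) @IsFinite hcov₁.finite
  have : IsFinite Q.π.left := hQ
  let σ : sect F Q.obj := evK c₁ Q.univ
  let t' : T₁.left := p'.base default
  have hfibre : ∀ w : Q.obj.left, Q.π.left.base w = t' → ∃ x : GPt Q.obj,
      x.ξ.base default = w ∧ σ.1 x = 0 := by
    intro w hw
    obtain ⟨z, hz, -⟩ := Scheme.Pullback.exists_preimage_pullback (f := Q.π.left) (g := p') w
      default hw
    obtain ⟨q, hq₁, hq₂⟩ :=
      EtSite.FieldExt.exists_section_of_isIntegralHom (pullback.snd Q.π.left p') z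
    let ξ := q ≫ pullback.fst Q.π.left p'
    have hξ : ξ ≫ Q.π.left = p' := by
      simp only [ξ, Category.assoc, pullback.condition]
      rw [← Category.assoc, hq₁, Category.id_comp]
    let h : pt η ⟶ Q.obj := Over.homMk ξ (by
      change ξ ≫ Q.obj.hom = η ≫ T.hom
      rw [← Over.w Q.π, ← Category.assoc, hξ]
      exact Over.w po)
    refine ⟨⟨Ω, η ≫ T.hom, ξ, Over.w h⟩,
      ((congrArg (pullback.fst Q.π.left p').base hq₂).trans hz : _), ?_⟩
    refine (ev0_map F η h (evK c₁ Q.univ)).symm.trans ?_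
    rw [← evK_res]
    exact hzero _ (Over.OverMorphism.ext hξ)
  let K : Set Q.obj.left :=
    (⋃₀ {O | IsOpen O ∧ ∀ x : GPt Q.obj, x.ξ.base default ∈ O → σ.1 x = 0})ᶜ
  have hK : IsClosed (Q.π.left.base '' K) :=
    Q.π.left.isClosedMap _ (isOpen_sUnion fun O hO => hO.1).isClosed_compl
  let N : T₁.left.Opens := ⟨_, hK.isOpen_compl⟩
  have htN : t' ∈ N := by
    rintro ⟨w, hwK, hw⟩
    obtain ⟨x, hxw, hx⟩ := hfibre w hw
    obtain ⟨O, hO, hxO, hO'⟩ := exists_open_zero F σ x hx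
    exact hwK (Set.mem_sUnion.2 ⟨O, ⟨hO, hO'⟩, hxw ▸ hxO⟩)
  let T₂ : Over X := Over.mk (N.ι ≫ T₁.hom)
  let g₂ : T₂ ⟶ T₁ := Over.homMk N.ι rfl
  let φ₂ := bc (bcMap v g) g₂
  refine ⟨T₂, _, bcMap (bcMap v g) g₂, φ.comp φ₂, hcov₁.bc g₂, ?_,
    ⟨(⟨t', htN⟩ : N), ?_⟩, φ₂.kmap _ ≫ b₁, ?_⟩
  · change Etale (g₂ ≫ g).left
    rw [Over.comp_left _ _ _ _ _]
    exact MorphismProperty.comp_mem @Etale _ _ (inferInstance : Etale N.ι) hu
  · change (g₂ ≫ g).left.base _ = t
    rw [Over.comp_left _ _ _ _ _]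
    exact (congrArg (fun m => m.base default) hp').trans (EtSite.Push.algPoint_apply _ t default)
  · rw [← Chg.kmap_comp, ← φ₂.kmap_dv, ← sub_eq_zero, ← Preadditive.comp_sub]
    refine hom_ext_K fun Y r => ?_
    rw [φ₂.evK_kmap]
    obtain ⟨h, hh⟩ := Q.exists_res (φ₂.simp r)
    rw [← hh, evK_res]
    refine Subtype.ext (funext fun x => ?_)
    change σ.1 ⟨x.Ω, x.η, x.ξ ≫ h.left, _⟩ = 0
    by_contra hne
    have hmem : Q.π.left.base ((x.ξ ≫ h.left).base default) ∈ N := by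
      have e : h ≫ Q.π = r.1.1 ≫ g₂ := congrArg (fun s => s.1.1) hh
      have e' := congrArg (fun k => k.left.base (x.ξ.base default)) e
      rw [show (Q.π.left.base ((x.ξ ≫ h.left).base default)) =
        (h ≫ Q.π).left.base (x.ξ.base default) from rfl, e']
      exact (r.1.1.left.base (x.ξ.base default) : N).2
    refine hmem ⟨(x.ξ ≫ h.left).base default, fun hU => ?_, rfl⟩
    obtain ⟨O, ⟨-, hO⟩, hxO⟩ := Set.mem_sUnion.1 hU
    exact hne (hO _ hxO)

end Groth.Agent.Lib.FppfEt.Base
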