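import Groth.Agent.Lib.FppfEt.Vanish
import Groth.Agent.Lib.BigEt.Compare
import Groth.Agent.Lib.SpecSeq.HomExt
import Groth.Prelude.Def_EtCore

/-!
# Etale and fppf cohomology of sheaves from the small etale site
-/

set_option autoImplicit false

universe u

open CategoryTheory CategoryTheory.Limits AlgebraicGeometry Opposite

noncomputable section

namespace Groth.Agent.Lib.FppfEt.Coh

open Groth.Agent.Lib.FppfEt.Resolution Groth.Agent.Lib.SpecSeq

variable {X : Scheme.{u}} [BigSite.AEtCont Scheme.fppfPrecoverage X] (F : EtCoh.Ab X)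

/-- The inverse image. -/
abbrev pullF : EtFppf.AbF X := (EtFppf.aPull X).obj F

variable (R : InjectiveResolution (pullF F))

/-- The restricted complex. -/
abbrev resCx : CochainComplex (EtCoh.Ab X) ℕ :=
  ((EtFppf.aPush X).mapHomologicalComplex (ComplexShape.up ℕ)).obj R.cocomplex

/-- The augmentation. -/
def aug : F ⟶ (resCx F R).X 0 :=
  (EtFppf.aAdj X).unit.app F ≫ (EtFppf.aPush X).map (R.ι.f 0)

theorem aug_d : aug F R ≫ (resCx F R).d 0 1 = 0 := by
  change ((EtFppf.aAdj X).unit.app F ≫ (EtFppf.aPush X).map (R.ι.f 0)) ≫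
    (EtFppf.aPush X).map (R.cocomplex.d 0 1) = 0
  have h := congrArg (EtFppf.aPush X).map R.ι_f_zero_comp_complex_d
  rw [Functor.map_comp, Functor.map_zero] at h
  exact (Category.assoc _ _ _).trans ((congrArg ((EtFppf.aAdj X).unit.app F ≫ ·) h).trans comp_zero)

/-- The restriction of an injective resolution is an injective resolution. -/
def resolution : InjectiveResolution F where
  cocomplex := resCx F R
  injective n :=
    have : (EtFppf.aPull X).PreservesMonomorphisms := EtGerm.Unit.preservesMonomorphisms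
      Scheme.fppfPrecoverage BigSite.etalePrecoverage_le_fppfPrecoverage
      Scheme.fppfPrecoverage_le_fpqcPrecoverage
    Injective.injective_of_adjoint (EtFppf.aAdj X) (R.cocomplex.X n)
  ι := (CochainComplex.fromSingle₀Equiv _ _).symm ⟨aug F R, aug_d F R⟩
  quasiIso := ⟨fun n => by
    cases n with
    | succ n =>
      rw [quasiIsoAt_iff_exactAt _ _ (CochainComplex.exactAt_succ_single_obj _ _)]
      exact Vanish.exactAt_resEt R (Vanish.locSurj_aPull X F R) n
    | zero =>
      rw [CochainComplex.quasiIsoAt₀_iff, ShortComplex.quasiIso_iff_of_zeros]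
      · have : IsIso ((EtFppf.aAdj X).unit.app F) := EtGerm.Unit.isIso_unit F
          Scheme.fppfPrecoverage BigSite.etalePrecoverage_le_fppfPrecoverage
          Scheme.fppfPrecoverage_le_fpqcPrecoverage
        have hl : IsLimit (KernelFork.ofι (aug F R) (aug_d F R) :
            KernelFork ((resCx F R).d 0 1)) := by
          have h1 := KernelFork.mapIsLimit R.kernelFork R.isLimitKernelFork (EtFppf.aPush X)
          refine IsLimit.ofIsoLimit h1
            (Fork.ext (asIso ((EtFppf.aAdj X).unit.app F)).symm ?_)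
          change inv ((EtFppf.aAdj X).unit.app F) ≫ aug F R = _
          exact IsIso.inv_hom_id_assoc _ _
        let S := ShortComplex.mk (aug F R) ((resCx F R).d 0 1) (aug_d F R)
        refine (ShortComplex.exact_and_mono_f_iff_of_iso ?_).1
          ⟨ShortComplex.exact_of_f_is_kernel S hl, Fork.IsLimit.mono hl⟩
        exact ShortComplex.isoMk (Iso.refl _) (Iso.refl _) (Iso.refl _)
          ((Category.id_comp _).trans (Category.comp_id _).symm)
          ((Category.id_comp _).trans (Category.comp_id _).symm)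
      all_goals first | rfl | exact (resCx F R).shape _ _ (by simp)⟩

/-- The two complexes of global sections. -/
def cxIso (A : EtCoh.Ab X) {B : EtFppf.AbF X} (i : (EtFppf.aPull X).obj A ≅ B) :
    HomExt.homCx R B ≅ HomExt.homCx (resolution F R) A :=
  haveI : (EtFppf.aPull X).Additive := (EtFppf.aAdj X).left_adjoint_additive
  HomologicalComplex.Hom.isoOfComponents
    (fun n => AddEquiv.toAddCommGrpIso
      (AddEquiv.mk' (i.homFromEquiv.symm.trans ((EtFppf.aAdj X).homEquiv A (R.cocomplex.X n)))
        fun (f g : B ⟶ R.cocomplex.X n) => by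
          change (EtFppf.aAdj X).homEquiv _ _ (i.hom ≫ (f + g)) =
            (EtFppf.aAdj X).homEquiv _ _ (i.hom ≫ f) + (EtFppf.aAdj X).homEquiv _ _ (i.hom ≫ g)
          rw [Preadditive.comp_add]
          exact (EtFppf.aAdj X).homAddEquiv_add _ _ _ _))
    fun n m _ => by
      ext f
      change (EtFppf.aAdj X).homEquiv _ _ (i.hom ≫ f) ≫ (EtFppf.aPush X).map (R.cocomplex.d n m) =
        (EtFppf.aAdj X).homEquiv _ _ (i.hom ≫ f ≫ R.cocomplex.d n m)
      rw [← Adjunction.homEquiv_naturality_right, Category.assoc]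

/-- Etale and fppf cohomology agree. -/
theorem nonempty_H (q : ℕ) : Nonempty (EtCoh.H X F q ≃+ EtFppf.HF X (pullF F) q) :=
  let R₀ := injectiveResolution (pullF F)
  ⟨((HomExt.homologyIso (resolution F R₀) q).symm ≪≫
    (HomologicalComplex.homologyFunctor _ _ q).mapIso
      (cxIso F R₀ _ ((BigEt.Compare.pullConstIso.{u + 1} (EtFppf.a X) X.smallEtaleTopology (QuotSh.J Scheme.fppfPrecoverage X)
        (EtCore.topIsTerminal X) Over.mkIdTerminal).app
          (AddCommGrpCat.of (ULift.{u + 1} ℤ)))).symm ≪≫
    HomExt.homologyIso R₀ q).addCommGroupIsoToAddEquiv⟩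

end Groth.Agent.Lib.FppfEt.Coh
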