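import Groth.Agent.Lib.CechPsh.Nerve
import Mathlib.AlgebraicGeometry.Morphisms.Finite
import Mathlib.AlgebraicGeometry.Morphisms.Flat
import Mathlib.AlgebraicGeometry.Morphisms.FinitePresentation

/-!
# Cochains on the Cech nerve of one morphism of schemes over a base

A cochain is a map out of the free presheaf on simplices; it is the same as a section over the
iterated fibre product.
-/

universe u

open CategoryTheory CategoryTheory.Limits AlgebraicGeometry Opposite

noncomputable section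

namespace Groth.Agent.Lib.FppfEt.Nerve

open Groth.Agent.Lib.CechPsh.Nerve

variable {X : Scheme.{u}}

/-- The family consisting of one morphism. -/
abbrev Uf {T V : Over X} (v : V ⟶ T) : PUnit.{u + 2} → Over T := fun _ => Over.mk v

/-- The free presheaf on simplices of `v`. -/
abbrev Kn {T V : Over X} (v : V ⟶ T) (m : ℕ) : (Over X)ᵒᵖ ⥤ AddCommGrpCat.{u + 1} :=
  K (Uf v) (Fin m)

/-- The differential. -/
abbrev dv {T V : Over X} (v : V ⟶ T) (n : ℕ) : Kn v (n + 2) ⟶ Kn v (n + 1) := d (Uf v) n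

variable {T V : Over X} {v : V ⟶ T}

/-- The lifts of a simplex. -/
def lft {α : Type} {W : Over X} (t : CechPsh.Nerve.T (Uf v) α W) (a : α) : W ⟶ V := (t.1.2 a).2

theorem lft_w {α : Type} {W : Over X} (t : CechPsh.Nerve.T (Uf v) α W) (a : α) :
    lft t a ≫ v = t.1.1 :=
  t.2 a

theorem simp_ext {α : Type} {W : Over X} {t t' : CechPsh.Nerve.T (Uf v) α W} (h₁ : t.1.1 = t'.1.1)
    (h₂ : ∀ a, lft t a = lft t' a) : t = t' :=
  CechPsh.Nerve.T.ext h₁ fun a => Sigma.ext rfl (heq_of_eq (h₂ a))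

/-- A simplex from its lifts. -/
def mkT {α : Type} {W : Over X} (f : W ⟶ T) (l : α → (W ⟶ V)) (h : ∀ a, l a ≫ v = f) :
    CechPsh.Nerve.T (Uf v) α W :=
  ⟨(f, fun a => ⟨PUnit.unit, l a⟩), h⟩

/-- A map out of the free presheaf on simplices, evaluated at a simplex. -/
def evK {G : (Over X)ᵒᵖ ⥤ AddCommGrpCat.{u + 1}} {α : Type} (c : K (Uf v) α ⟶ G) {W : Over X}
    (t : CechPsh.Nerve.T (Uf v) α W) : G.obj (op W) :=
  c.app (op W) (gen.{u + 1, u, u + 1} t)

theorem evK_res {G : (Over X)ᵒᵖ ⥤ AddCommGrpCat.{u + 1}} {α : Type} (c : K (Uf v) α ⟶ G)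
    {W W' : Over X} (g : W' ⟶ W) (t : CechPsh.Nerve.T (Uf v) α W) :
    evK c (res g t) = G.map g.op (evK c t) :=
  natTrans_res c g t

theorem hom_ext_K {G : (Over X)ᵒᵖ ⥤ AddCommGrpCat.{u + 1}} {α : Type} {c c' : K (Uf v) α ⟶ G}
    (h : ∀ (W : Over X) (t : CechPsh.Nerve.T (Uf v) α W), evK c t = evK c' t) : c = c' := by
  ext W : 2
  exact AddCommGrpCat.hom_ext (CechPsh.Nerve.hom_ext fun t => h W.unop t)

theorem evK_dv {G : (Over X)ᵒᵖ ⥤ AddCommGrpCat.{u + 1}} (n : ℕ) (c : Kn v (n + 1) ⟶ G) {W : Over X}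
    (t : CechPsh.Nerve.T (Uf v) (Fin (n + 2)) W) :
    evK (dv v n ≫ c) t =
      ∑ a : Fin (n + 2), (-1 : ℤ) ^ (a : ℕ) • evK c (reindex a.succAbove t) := by
  let L : F.{u + 1, u, u + 1} (Uf v) (Fin (n + 1)) W →+ G.obj (op W) := (c.app (op W)).hom
  change L (dHom.{u + 1, u, u + 1} n W (gen.{u + 1, u, u + 1} t)) = _
  rw [d_gen, map_sum]
  simp only [map_zsmul]
  rfl

theorem evK_comp {G G' : (Over X)ᵒᵖ ⥤ AddCommGrpCat.{u + 1}} {α : Type} (c : K (Uf v) α ⟶ G)
    (f : G ⟶ G') {W : Over X} (t : CechPsh.Nerve.T (Uf v) α W) :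
    evK (c ≫ f) t = f.app (op W) (evK c t) :=
  rfl

/-- An iterated fibre product with its simplex. -/
structure Pow (v : V ⟶ T) (m : ℕ) where
  /-- the object -/
  obj : Over X
  /-- the universal simplex -/
  univ : CechPsh.Nerve.T (Uf v) (Fin m) obj
  exists_res : ∀ {W : Over X} (t : CechPsh.Nerve.T (Uf v) (Fin m) W), ∃ g : W ⟶ obj, res g univ = t
  res_inj : ∀ {W : Over X} (g g' : W ⟶ obj), res g univ = res g' univ → g = g'

/-- The structure map of the iterated fibre product. -/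
abbrev Pow.π {m : ℕ} (P : Pow v m) : P.obj ⟶ T := P.univ.1.1

/-- Powers exist, finite and flat over the base when the morphism is. -/
theorem exists_pow (m : ℕ) (Q : MorphismProperty Scheme.{u}) [Q.IsStableUnderComposition]
    [Q.IsStableUnderBaseChange] [Q.ContainsIdentities] (hv : Q v.left) :
    ∃ P : Pow v m, Q P.π.left := by
  induction m with
  | zero =>
    refine ⟨⟨T, mkT (v := v) (𝟙 T) (fun a => a.elim0) (fun a => a.elim0),
      fun t => ⟨t.1.1, simp_ext (Category.comp_id _) fun a => a.elim0⟩, fun g g' h => ?_⟩,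
      Q.id_mem _⟩
    have e := congrArg (fun t => t.1.1) h
    exact ((Category.comp_id g).symm.trans e).trans (Category.comp_id g')
  | succ m ih =>
    obtain ⟨P, hP⟩ := ih
    let O : Over X := Over.mk (pullback.fst P.π.left v.left ≫ P.obj.hom)
    let a : O ⟶ P.obj := Over.homMk (pullback.fst P.π.left v.left) rfl
    let b : O ⟶ V := Over.homMk (pullback.snd P.π.left v.left) (by
      change pullback.snd P.π.left v.left ≫ V.hom = pullback.fst P.π.left v.left ≫ P.obj.hom
      rw [← Over.w v, ← Over.w P.π, pullback.condition_assoc])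
    have hab : b ≫ v = a ≫ P.π := Over.OverMorphism.ext pullback.condition.symm
    let u : CechPsh.Nerve.T (Uf v) (Fin (m + 1)) O :=
      mkT (a ≫ P.π) (Fin.snoc (α := fun _ => O ⟶ V) (fun i => a ≫ lft P.univ i) b) fun i => by
        induction i using Fin.lastCases with
        | last => rw [Fin.snoc_last]; exact hab
        | cast i => rw [Fin.snoc_castSucc, Category.assoc, lft_w]
    have hu : ∀ i : Fin m, lft u i.castSucc = a ≫ lft P.univ i := fun i => by
      change Fin.snoc (α := fun _ => O ⟶ V) (fun i => a ≫ lft P.univ i) b i.castSucc = _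
      rw [Fin.snoc_castSucc]
    have hl : lft u (Fin.last m) = b := by
      change Fin.snoc (α := fun _ => O ⟶ V) (fun i => a ≫ lft P.univ i) b (Fin.last m) = _
      rw [Fin.snoc_last]
    refine ⟨⟨O, u, fun {W} t => ?_, fun {W} g g' h => ?_⟩, ?_⟩
    · obtain ⟨g, hg⟩ := P.exists_res (mkT t.1.1 (fun i => lft t i.castSucc) fun i => lft_w t _)
      have hw : g ≫ P.π = t.1.1 := congrArg (fun s => s.1.1) hg
      let g' : W ⟶ O := Over.homMk (pullback.lift g.left (lft t (Fin.last m)).left (by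
        rw [← Over.comp_left _ _ _ _ _, ← Over.comp_left _ _ _ _ _, hw, lft_w])) (by
        change pullback.lift g.left _ _ ≫ pullback.fst P.π.left v.left ≫ P.obj.hom = W.hom
        rw [pullback.lift_fst_assoc, Over.w g])
      have ha : g' ≫ a = g := Over.OverMorphism.ext (pullback.lift_fst _ _ _)
      have hb : g' ≫ b = lft t (Fin.last m) := Over.OverMorphism.ext (pullback.lift_snd _ _ _)
      refine ⟨g', simp_ext ?_ fun i => ?_⟩
      · change g' ≫ a ≫ P.π = t.1.1
        rw [← Category.assoc, ha, hw]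
      · change g' ≫ lft u i = lft t i
        induction i using Fin.lastCases with
        | last => rw [hl, hb]
        | cast i =>
          rw [hu, ← Category.assoc, ha]
          exact congrArg (fun s => lft s i) hg
    · have hb : g ≫ b = g' ≫ b := by
        rw [← hl]; exact congrArg (fun s => lft s (Fin.last m)) h
      have ha : g ≫ a = g' ≫ a := P.res_inj _ _ <| simp_ext
        ((Category.assoc _ _ _).trans ((congrArg (fun s => s.1.1) h).trans (Category.assoc _ _ _).symm))
        fun i => by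
          change (g ≫ a) ≫ lft P.univ i = (g' ≫ a) ≫ lft P.univ i
          rw [Category.assoc, Category.assoc, ← hu]
          exact congrArg (fun s => lft s i.castSucc) h
      refine Over.OverMorphism.ext (pullback.hom_ext ?_ ?_)
      · exact congrArg Over.Hom.left ha
      · exact congrArg Over.Hom.left hb
    · change Q (pullback.fst P.π.left v.left ≫ P.π.left)
      exact Q.comp_mem _ _ (MorphismProperty.pullback_fst _ _ hv) hP

/-- The cochain defined by a section on a power. -/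
def ofElem {m : ℕ} (P : Pow v m) {G : (Over X)ᵒᵖ ⥤ AddCommGrpCat.{u + 1}} (e : G.obj (op P.obj)) :
    Kn v m ⟶ G where
  app W := AddCommGrpCat.ofHom
    (CechPsh.Nerve.lift.{u + 1, u, u + 1, u + 1} fun t => G.map (P.exists_res t).choose.op e)
  naturality W W' g := AddCommGrpCat.hom_ext (CechPsh.Nerve.hom_ext fun t => by
    let L (W : Over X) : F.{u + 1, u, u + 1} (Uf v) (Fin m) W →+ G.obj (op W) :=
      CechPsh.Nerve.lift.{u + 1, u, u + 1, u + 1} fun t => G.map (P.exists_res t).choose.op e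
    change L W'.unop (fmap.{u + 1, u, u + 1} (res g.unop) (gen.{u + 1, u, u + 1} t)) = G.map g (L W.unop (gen.{u + 1, u, u + 1} t))
    rw [fmap_gen]
    refine (lift_gen _ _).trans (Eq.trans ?_ (congrArg (G.map g) (lift_gen _ t)).symm)
    rw [← ConcreteCategory.comp_apply, ← G.map_comp]
    refine congrArg (fun q => G.map (Quiver.Hom.op q) e) (P.res_inj _ _ ?_)
    rw [(P.exists_res (res g.unop t)).choose_spec]
    exact ((congrArg (res g.unop) (P.exists_res t).choose_spec).symm.trans (res_comp _ _ _).symm))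

theorem evK_ofElem {m : ℕ} (P : Pow v m) {G : (Over X)ᵒᵖ ⥤ AddCommGrpCat.{u + 1}}
    (e : G.obj (op P.obj)) {W : Over X} (g : W ⟶ P.obj) :
    evK (ofElem P e) (res g P.univ) = G.map g.op e := by
  refine (lift_gen.{u + 1, u, u + 1, u + 1} (Uf := Uf v) (α := Fin m) (V := W)
    (fun t => G.map (P.exists_res t).choose.op e) (res g P.univ)).trans (congrArg (fun q => G.map (Quiver.Hom.op q) e) (P.res_inj _ _ ?_))
  exact (P.exists_res _).choose_spec

theorem eq_ofElem {m : ℕ} (P : Pow v m) {G : (Over X)ᵒᵖ ⥤ AddCommGrpCat.{u + 1}} (c : Kn v m ⟶ G) :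
    c = ofElem P (evK c P.univ) := hom_ext_K fun W t => by
  obtain ⟨g, rfl⟩ := P.exists_res t
  rw [evK_res, evK_ofElem]

/-! ### Change of base -/

/-- A morphism of one-element families. -/
structure Chg {T' V' : Over X} (v' : V' ⟶ T') (v : V ⟶ T) where
  /-- on the base -/
  g : T' ⟶ T
  /-- on the covering -/
  gV : V' ⟶ V
  w : gV ≫ v = v' ≫ g

variable {T' V' : Over X} {v' : V' ⟶ T'} (φ : Chg v' v)

/-- The image of a simplex. -/
def Chg.simp {α : Type} {W : Over X} (t : CechPsh.Nerve.T (Uf v') α W) :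
    CechPsh.Nerve.T (Uf v) α W :=
  mkT (t.1.1 ≫ φ.g) (fun a => lft t a ≫ φ.gV) fun a => by
    rw [Category.assoc, φ.w, ← Category.assoc, lft_w]

/-- The induced map of free groups. -/
def Chg.fgen (α : Type) (W : Over X) : F.{u + 1, u, u + 1} (Uf v') α W →+ F.{u + 1, u, u + 1} (Uf v) α W :=
  CechPsh.Nerve.lift.{u + 1, u, u + 1, u + 1} fun t => gen.{u + 1, u, u + 1} (φ.simp t)

/-- The induced map of free presheaves. -/
def Chg.kmap (α : Type) : K (Uf v') α ⟶ K (Uf v) α where
  app W := AddCommGrpCat.ofHom (φ.fgen α W.unop)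
  naturality W W' g := AddCommGrpCat.hom_ext (CechPsh.Nerve.hom_ext fun t => by
    change φ.fgen α W'.unop (fmap.{u + 1, u, u + 1} (res g.unop) (gen.{u + 1, u, u + 1} t)) =
      fmap.{u + 1, u, u + 1} (res g.unop) (φ.fgen α W.unop (gen.{u + 1, u, u + 1} t))
    simp only [Chg.fgen, fmap_gen, lift_gen]
    exact congrArg gen (simp_ext (Category.assoc _ _ _) fun a => Category.assoc _ _ _))

theorem Chg.evK_kmap {α : Type} {G : (Over X)ᵒᵖ ⥤ AddCommGrpCat.{u + 1}} (c : K (Uf v) α ⟶ G)
    {W : Over X} (t : CechPsh.Nerve.T (Uf v') α W) :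
    evK (φ.kmap α ≫ c) t = evK c (φ.simp t) :=
  congrArg (c.app (op W)) (lift_gen (fun t => gen (φ.simp t)) t)

theorem Chg.kmap_dv (n : ℕ) {G : (Over X)ᵒᵖ ⥤ AddCommGrpCat.{u + 1}} (c : Kn v (n + 1) ⟶ G) :
    φ.kmap _ ≫ dv v n ≫ c = dv v' n ≫ φ.kmap _ ≫ c := hom_ext_K fun W t => by
  rw [φ.evK_kmap, evK_dv, evK_dv]
  refine Finset.sum_congr rfl fun a _ => ?_
  rw [φ.evK_kmap]
  rfl

/-- Composition. -/
def Chg.comp {T'' V'' : Over X} {v'' : V'' ⟶ T''} (ψ : Chg v'' v') : Chg v'' v :=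
  ⟨ψ.g ≫ φ.g, ψ.gV ≫ φ.gV, by rw [Category.assoc, φ.w, ← Category.assoc, ψ.w, Category.assoc]⟩

theorem Chg.kmap_comp {T'' V'' : Over X} {v'' : V'' ⟶ T''} (ψ : Chg v'' v') (α : Type)
    {G : (Over X)ᵒᵖ ⥤ AddCommGrpCat.{u + 1}} (c : K (Uf v) α ⟶ G) :
    ψ.kmap α ≫ φ.kmap α ≫ c = (φ.comp ψ).kmap α ≫ c := hom_ext_K fun W t => by
  rw [Chg.evK_kmap, Chg.evK_kmap, Chg.evK_kmap]
  exact congrArg (evK c) (simp_ext (Category.assoc _ _ _) fun a => by
    change (lft t a ≫ ψ.gV) ≫ φ.gV = lft t a ≫ ψ.gV ≫ φ.gV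
    exact Category.assoc _ _ _)

/-- The base change along `g`. -/
abbrev bcObj (v : V ⟶ T) (g : T' ⟶ T) : Over X :=
  Over.mk (pullback.fst g.left v.left ≫ T'.hom)

/-- The base change of the morphism. -/
abbrev bcMap (v : V ⟶ T) (g : T' ⟶ T) : bcObj v g ⟶ T' :=
  Over.homMk (pullback.fst g.left v.left) rfl

/-- The base change as a change of family. -/
def bc (v : V ⟶ T) (g : T' ⟶ T) : Chg (bcMap v g) v where
  g := g
  gV := Over.homMk (pullback.snd g.left v.left) (by
    change pullback.snd g.left v.left ≫ V.hom = pullback.fst g.left v.left ≫ T'.hom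
    rw [← Over.w v, ← Over.w g, pullback.condition_assoc])
  w := Over.OverMorphism.ext pullback.condition.symm

/-- The map to the base change of a power classifying the image of a simplex. -/
theorem exists_bc_classify {m : ℕ} (P : Pow v m) {W : Over X}
    (t : CechPsh.Nerve.T (Uf v') (Fin m) W) :
    ∃ g : W ⟶ bcObj P.π φ.g,
      g ≫ bcMap P.π φ.g = t.1.1 ∧ res (g ≫ (bc P.π φ.g).gV) P.univ = φ.simp t := by
  obtain ⟨h, hh⟩ := P.exists_res (φ.simp t)
  have hw : h ≫ P.π = t.1.1 ≫ φ.g := congrArg (fun s => s.1.1) hh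
  let g : W ⟶ bcObj P.π φ.g := Over.homMk (pullback.lift t.1.1.left h.left
      ((Over.comp_left _ _ _ _ _).symm.trans ((congrArg Over.Hom.left hw.symm).trans
        (Over.comp_left _ _ _ _ _)))) (by
    change pullback.lift t.1.1.left h.left _ ≫ pullback.fst φ.g.left P.π.left ≫ T'.hom = W.hom
    rw [pullback.lift_fst_assoc, Over.w t.1.1])
  have hg : g ≫ (bc P.π φ.g).gV = h := Over.OverMorphism.ext (pullback.lift_snd _ _ _)
  exact ⟨g, Over.OverMorphism.ext (pullback.lift_fst _ _ _), by rw [hg, hh]⟩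

theorem bc_classify_inj {m : ℕ} (P : Pow v m) {W : Over X} {g g' : W ⟶ bcObj P.π φ.g}
    (h₁ : g ≫ bcMap P.π φ.g = g' ≫ bcMap P.π φ.g)
    (h₂ : res (g ≫ (bc P.π φ.g).gV) P.univ = res (g' ≫ (bc P.π φ.g).gV) P.univ) : g = g' :=
  Over.OverMorphism.ext (pullback.hom_ext (congrArg Over.Hom.left h₁)
    (congrArg Over.Hom.left (P.res_inj _ _ h₂)))

/-- The cochain on a base change defined by a section on the base change of a power. -/
def ofElemBC {m : ℕ} (P : Pow v m) {G : (Over X)ᵒᵖ ⥤ AddCommGrpCat.{u + 1}}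
    (e : G.obj (op (bcObj P.π φ.g))) : Kn v' m ⟶ G where
  app W := AddCommGrpCat.ofHom
    (CechPsh.Nerve.lift.{u + 1, u, u + 1, u + 1} fun t =>
      G.map (exists_bc_classify φ P t).choose.op e)
  naturality W W' g := AddCommGrpCat.hom_ext (CechPsh.Nerve.hom_ext fun t => by
    let L (W : Over X) : F.{u + 1, u, u + 1} (Uf v') (Fin m) W →+ G.obj (op W) :=
      CechPsh.Nerve.lift.{u + 1, u, u + 1, u + 1} fun t =>
        G.map (exists_bc_classify φ P t).choose.op e
    change L W'.unop (fmap.{u + 1, u, u + 1} (res g.unop) (gen.{u + 1, u, u + 1} t)) =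
      G.map g (L W.unop (gen.{u + 1, u, u + 1} t))
    rw [fmap_gen]
    refine (lift_gen _ _).trans (Eq.trans ?_ (congrArg (G.map g) (lift_gen _ t)).symm)
    rw [← ConcreteCategory.comp_apply, ← G.map_comp]
    refine congrArg (fun q => G.map (Quiver.Hom.op q) e) (bc_classify_inj φ P ?_ ?_)
    · change _ = (g.unop ≫ (exists_bc_classify φ P t).choose) ≫ _
      rw [(exists_bc_classify φ P (res g.unop t)).choose_spec.1, Category.assoc,
        (exists_bc_classify φ P t).choose_spec.1]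
      rfl
    · change _ = res ((g.unop ≫ (exists_bc_classify φ P t).choose) ≫ _) P.univ
      rw [(exists_bc_classify φ P (res g.unop t)).choose_spec.2, Category.assoc, res_comp,
        (exists_bc_classify φ P t).choose_spec.2]
      exact simp_ext (Category.assoc _ _ _) fun a => by
        change (g.unop ≫ lft t a) ≫ φ.gV = g.unop ≫ lft t a ≫ φ.gV
        exact Category.assoc _ _ _)

theorem evK_ofElemBC {m : ℕ} (P : Pow v m) {G : (Over X)ᵒᵖ ⥤ AddCommGrpCat.{u + 1}}
    (e : G.obj (op (bcObj P.π φ.g))) {W : Over X} (t : CechPsh.Nerve.T (Uf v') (Fin m) W)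
    (g : W ⟶ bcObj P.π φ.g) (h₁ : g ≫ bcMap P.π φ.g = t.1.1)
    (h₂ : res (g ≫ (bc P.π φ.g).gV) P.univ = φ.simp t) :
    evK (ofElemBC φ P e) t = G.map g.op e := by
  refine (lift_gen.{u + 1, u, u + 1, u + 1} (fun t => G.map (exists_bc_classify φ P t).choose.op e)
    t).trans (congrArg (fun q => G.map (Quiver.Hom.op q) e) (bc_classify_inj φ P ?_ ?_))
  · rw [(exists_bc_classify φ P t).choose_spec.1, h₁]
  · rw [(exists_bc_classify φ P t).choose_spec.2, h₂]

end Groth.Agent.Lib.FppfEt.Nerve
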