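import Groth.Agent.Lib.FppfEt.Coh
import Groth.Agent.Lib.FppfEt.Nerve
import Groth.Agent.Lib.BigEt.PiPull
import Groth.Agent.Lib.BigEt.Derived
import Groth.Agent.H30.E1.Double
import Groth.Agent.Lib.EtRad.Push

/-!
# The descent spectral sequence of a flat, locally finitely presented, surjective morphism

The double complex is the Cech complex of the fppf covering with values in an injective resolution of
the inverse image to the big fppf site.
-/

set_option autoImplicit false

universe u

open CategoryTheory CategoryTheory.Limits AlgebraicGeometry Opposite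

set_option backward.isDefEq.respectTransparency false

noncomputable section

namespace Groth.Agent.Lib.FppfEt.Descent

open Groth.Agent.Lib.FppfEt.Nerve Groth.Agent.Lib.SpecSeq

variable {X Y : Scheme.{u}} (f : X ⟶ Y)

/-- The morphism as a one-element family over the base. -/
abbrev vY : Over.mk f ⟶ Over.mk (𝟙 Y) := Over.homMk f (Category.comp_id f)

/-- The structure map of a fibre power. -/
abbrev base (m : ℕ) : widePullback Y (fun _ : Fin m => X) (fun _ => f) ⟶ Y :=
  WidePullback.base (fun _ : Fin m => f)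

theorem π_comp (m : ℕ) (i : Fin m) : WidePullback.π (fun _ : Fin m => f) i ≫ f = base f m :=
  WidePullback.π_arrow (fun _ : Fin m => f) i

/-- The fibre powers. -/
def fibPow (m : ℕ) : Pow (vY f) m where
  obj := Over.mk (base f m)
  univ := mkT (Over.homMk (base f m) (Category.comp_id _))
    (fun i => Over.homMk (WidePullback.π (fun _ : Fin m => f) i) (π_comp f m i))
    fun i => Over.OverMorphism.ext (π_comp f m i)
  exists_res {W} t := by
    have ht : ∀ i, (lft t i).left ≫ f = W.hom := fun i => Over.w (lft t i)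
    refine ⟨Over.homMk (WidePullback.lift W.hom (fun i => (lft t i).left) ht)
      (WidePullback.lift_base _ _ _ _), simp_ext ?_ fun i => ?_⟩
    · refine Over.OverMorphism.ext ((WidePullback.lift_base _ _ _ _).trans ?_)
      exact ((Category.comp_id _).symm.trans (Over.w t.1.1)).symm
    · exact Over.OverMorphism.ext (WidePullback.lift_π _ _ _ _ _)
  res_inj {W} g g' h := by
    refine Over.OverMorphism.ext (WidePullback.hom_ext _ _ _ (fun i => ?_) ?_)
    · exact congrArg (fun s => (lft s i).left) h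
    · exact congrArg (fun s => s.1.1.left) h

/-- The complex of free presheaves on the simplices. -/
abbrev Kd (p : ℕ) : Kn (vY f) (p + 1 + 1) ⟶ Kn (vY f) (p + 1) := dv (vY f) p

/-- The Cech complex with values in a sheaf. -/
def cech (G : EtFppf.AbF Y) : CochainComplex AddCommGrpCat.{u + 1} ℕ :=
  CochainComplex.of (fun p => AddCommGrpCat.of (Kn (vY f) (p + 1) ⟶ G.obj))
    (fun p => AddCommGrpCat.ofHom
      (AddMonoidHom.mk' (fun c => Kd f p ≫ c) fun a b => Preadditive.comp_add _ _ _ _ a b))
    fun p => AddCommGrpCat.hom_ext (AddMonoidHom.ext fun c => by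
      change Kd f (p + 1) ≫ Kd f p ≫ c = 0
      have e : Kd f (p + 1) ≫ Kd f p = 0 := CechPsh.Nerve.d_comp_d (Uf := Uf (vY f)) p
      rw [← Category.assoc, e, zero_comp])

theorem cech_d_apply (G : EtFppf.AbF Y) (p : ℕ) (c : Kn (vY f) (p + 1) ⟶ G.obj) :
    (cech f G).d p (p + 1) c = Kd f p ≫ c := by
  have h : (cech f G).d p (p + 1) = AddCommGrpCat.ofHom
      (AddMonoidHom.mk' (fun c => Kd f p ≫ c) fun a b => Preadditive.comp_add _ _ _ _ a b) := by
    dsimp only [cech, CochainComplex.of]
    exact CochainComplex.of_d (fun p => AddCommGrpCat.of (Kn (vY f) (p + 1) ⟶ G.obj)) _ p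
  exact ConcreteCategory.congr_hom h c

/-- The Cech complex as a functor. -/
def cechF : EtFppf.AbF Y ⥤ CochainComplex AddCommGrpCat.{u + 1} ℕ where
  obj := cech f
  map {G G'} φ :=
    { f := fun p => AddCommGrpCat.ofHom
        (AddMonoidHom.mk' (fun c : Kn (vY f) (p + 1) ⟶ G.obj => c ≫ φ.hom)
          fun a b => Preadditive.add_comp _ _ _ a b _)
      comm' := fun i j hij => by
        obtain rfl : i + 1 = j := hij
        refine AddCommGrpCat.hom_ext (AddMonoidHom.ext fun c => ?_)
        change (cech f G').d i (i + 1) (c ≫ φ.hom) = (cech f G).d i (i + 1) c ≫ φ.hom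
        rw [cech_d_apply, cech_d_apply, Category.assoc] }
  map_id G := by
    ext p c
    exact Category.comp_id c
  map_comp φ ψ := by
    ext p c
    exact (Category.assoc c _ _).symm

instance : (cechF f).Additive where
  map_add {G G' φ ψ} := by
    ext p c
    exact Preadditive.comp_add _ _ _ c φ.hom ψ.hom

/-- The value of a cochain on the fibre power. -/
def evIso (p : ℕ) (G : EtFppf.AbF Y) :
    (cech f G).X p ≅ G.obj.obj (op (Over.mk (base f (p + 1)))) :=
  (AddEquiv.ofBijective
    (AddMonoidHom.mk' (fun c : Kn (vY f) (p + 1) ⟶ G.obj => evK c (fibPow f (p + 1)).univ)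
      fun _ _ => rfl)
    ⟨fun c c' h => (eq_ofElem (fibPow f (p + 1)) c).trans ((congrArg _ h).trans
        (eq_ofElem (fibPow f (p + 1)) c').symm),
      fun e => ⟨ofElem (fibPow f (p + 1)) e, by
        change evK (ofElem (fibPow f (p + 1)) e) (fibPow f (p + 1)).univ = e
        refine (congrArg (evK _) (CechPsh.Nerve.res_id _).symm).trans
          ((evK_ofElem (fibPow f (p + 1)) e (𝟙 _)).trans ?_)
        rw [op_id, CategoryTheory.Functor.map_id]
        rfl⟩⟩).toAddCommGrpIso

theorem evIso_naturality {G G' : EtFppf.AbF Y} (φ : G ⟶ G') (p : ℕ) :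
    ((cechF f).map φ).f p ≫ (evIso f p G').hom = (evIso f p G).hom ≫ φ.hom.app (op _) := by
  ext c
  rfl

section rows

variable [Flat f] [LocallyOfFinitePresentation f] [Surjective f] (G : EtFppf.AbF Y)

theorem mem : Sieve.ofArrows (fun _ : PUnit.{u + 2} => Over.mk f) (fun _ => vY f) ∈
    EtFppf.J Y (Over.mk (𝟙 Y)) := by
  rw [GrothendieckTopology.mem_over_iff, Sieve.overEquiv_ofArrows]
  refine Precoverage.generate_mem_toGrothendieck
    ((Scheme.ofArrows_mem_precoverage_iff _).2
      ⟨fun t => ?_, fun _ => ⟨(inferInstance : Flat f), (inferInstance : LocallyOfFinitePresentation f)⟩⟩)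
  obtain ⟨w, hw⟩ := ‹Surjective f›.surj t
  exact ⟨PUnit.unit, w, hw⟩

theorem isSheafFor :
    (Presieve.ofArrows (fun _ : PUnit.{u + 2} => Over.mk f) fun _ => vY f).IsSheafFor
      (G.obj ⋙ forget AddCommGrpCat.{u + 1}) :=
  (Presieve.isSheafFor_iff_generate _).2
    (((isSheaf_iff_isSheaf_of_type _ _).1 (Presheaf.isSheaf_comp_of_isSheaf _ G.obj
      (forget AddCommGrpCat.{u + 1}) G.property)) _ (mem f))

/-- Restriction of a section over the base. -/
def augFun (e : G.obj.obj (op (Over.mk (𝟙 Y)))) : Kn (vY f) 1 ⟶ G.obj :=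
  ofElem (fibPow f 1) (G.obj.map (fibPow f 1).π.op e)

omit [Flat f] [LocallyOfFinitePresentation f] [Surjective f] in
theorem evK_augFun (e : G.obj.obj (op (Over.mk (𝟙 Y)))) {W : Over Y}
    (t : CechPsh.Nerve.T (Uf (vY f)) (Fin 1) W) : evK (augFun f G e) t = G.obj.map t.1.1.op e := by
  obtain ⟨g, rfl⟩ := (fibPow f 1).exists_res t
  rw [augFun, evK_ofElem]
  exact EtGerm.Univ.map_map G.obj _ _ e

omit [Flat f] [LocallyOfFinitePresentation f] [Surjective f] in
theorem augFun_d (e : G.obj.obj (op (Over.mk (𝟙 Y)))) : Kd f 0 ≫ augFun f G e = 0 :=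
  hom_ext_K fun W t => by
    rw [evK_dv, Fin.sum_univ_two, evK_augFun, evK_augFun]
    change (1 : ℤ) • G.obj.map t.1.1.op e + (-1 : ℤ) • G.obj.map t.1.1.op e = 0
    simp only [one_smul, neg_smul]
    exact add_neg_cancel _

/-- The augmentation. -/
def aug : G.obj.obj (op (Over.mk (𝟙 Y))) ⟶ (cech f G).X 0 :=
  AddCommGrpCat.ofHom (AddMonoidHom.mk' (augFun f G) fun a b => hom_ext_K fun W t => by
    change evK (augFun f G (a + b)) t = evK (augFun f G a) t + evK (augFun f G b) t
    rw [evK_augFun, evK_augFun, evK_augFun, map_add])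

omit [Flat f] [LocallyOfFinitePresentation f] [Surjective f] in
theorem aug_d : aug f G ≫ (cech f G).d 0 1 = 0 := by
  ext e
  exact (cech_d_apply f G 0 _).trans (augFun_d f G e)

theorem aug_mono : Mono (aug f G) := by
  refine (AddCommGrpCat.mono_iff_injective _).2 fun a b h => ?_
  refine (isSheafFor f G).isSeparatedFor.ext fun Z g hg => ?_
  obtain ⟨⟩ := hg
  let s : CechPsh.Nerve.T (Uf (vY f)) (Fin 1) (Over.mk f) :=
    mkT (vY f) (fun _ => 𝟙 _) fun _ => Category.id_comp _
  exact (evK_augFun f G a s).symm.trans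
    ((congrArg (fun c => evK c s) h).trans (evK_augFun f G b s))

theorem aug_exact : (ShortComplex.mk (aug f G) ((cech f G).d 0 1) (aug_d f G)).Exact := by
  rw [ShortComplex.ab_exact_iff]
  intro c hc
  have hd : Kd f 0 ≫ c = 0 := (cech_d_apply f G 0 c).symm.trans hc
  let s₀ : CechPsh.Nerve.T (Uf (vY f)) (Fin 1) (Over.mk f) :=
    mkT (vY f) (fun _ => 𝟙 _) fun _ => Category.id_comp _
  obtain ⟨e, he, -⟩ := (Presieve.isSheafFor_arrows_iff _ _).1 (isSheafFor f G)
    (fun _ => evK c s₀) fun _ _ Z a a' (haa : a ≫ vY f = a' ≫ vY f) => by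
      let s : CechPsh.Nerve.T (Uf (vY f)) (Fin 2) Z := mkT (a ≫ vY f) ![a, a'] fun k => by
        fin_cases k
        · rfl
        · exact haa.symm
      have h0 : ∑ k : Fin 2, (-1 : ℤ) ^ (k : ℕ) • evK c (CechPsh.Nerve.reindex k.succAbove s) = 0 :=
        (evK_dv 0 c s).symm.trans (congrArg (fun c => evK c s) hd)
      rw [Fin.sum_univ_two] at h0
      rw [LocAcyclic.reindex_pair (a ≫ vY f) _ _ 0 a' rfl,
        LocAcyclic.reindex_pair (a ≫ vY f) _ _ 1 a rfl, evK_res, evK_res] at h0
      change (1 : ℤ) • G.obj.map a'.op (evK c s₀) + (-1 : ℤ) • G.obj.map a.op (evK c s₀) = 0 at h0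
      simp only [one_smul, neg_smul] at h0
      exact (sub_eq_zero.1 ((sub_eq_add_neg _ _).trans h0)).symm
  refine ⟨e, ?_⟩
  change augFun f G e = c
  refine hom_ext_K fun W t => ?_
  rw [evK_augFun]
  have ht : t = CechPsh.Nerve.res (lft t 0) s₀ := simp_ext (lft_w t 0).symm fun b => by
    obtain rfl : b = 0 := Subsingleton.elim _ _
    exact (Category.comp_id _).symm
  refine Eq.trans ?_ (congrArg (evK c) ht).symm
  rw [evK_res]
  refine Eq.trans ?_ (congrArg (G.obj.map (lft t 0).op) (he PUnit.unit))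
  change _ = G.obj.map (lft t 0).op (G.obj.map (vY f).op e)
  rw [EtGerm.Univ.map_map, lft_w]

/-- The comparison with the zeroth cohomology. -/
def toH0 : G.obj.obj (op (Over.mk (𝟙 Y))) ⟶ (cech f G).homology 0 :=
  (cech f G).liftCycles (aug f G) 1 (by simp) (aug_d f G) ≫ (cech f G).homologyπ 0

theorem isIso_toH0 : IsIso (toH0 f G) := by
  have := aug_mono f G
  let h := (aug_exact f G).fIsKernel
  let e := h.conePointUniqueUpToIso ((cech f G).cyclesIsKernel 0 1 (by simp))
  have he : (cech f G).liftCycles (aug f G) 1 (by simp) (aug_d f G) = e.hom := by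
    rw [← cancel_mono ((cech f G).iCycles 0), HomologicalComplex.liftCycles_i]
    exact (IsLimit.conePointUniqueUpToIso_hom_comp h _ WalkingParallelPair.zero).symm
  rw [toH0, he]
  haveI : IsIso ((cech f G).homologyπ 0) :=
    (cech f G).isIso_homologyπ 0 0 (by simp) ((cech f G).shape 0 0 (by simp))
  infer_instance

omit [Flat f] [LocallyOfFinitePresentation f] [Surjective f] in
theorem toH0_naturality {G G' : EtFppf.AbF Y} (φ : G ⟶ G') :
    toH0 f G ≫ HomologicalComplex.homologyMap ((cechF f).map φ) 0 =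
      φ.hom.app (op _) ≫ toH0 f G' := by
  have e : aug f G ≫ ((cechF f).map φ).f 0 = φ.hom.app (op _) ≫ aug f G' := by
    ext a
    change augFun f G a ≫ φ.hom = augFun f G' (φ.hom.app (op _) a)
    refine hom_ext_K fun W t => ?_
    rw [evK_comp, evK_augFun, evK_augFun]
    exact NatTrans.naturality_apply φ.hom _ a
  rw [toH0, toH0, Category.assoc, HomologicalComplex.homologyπ_naturality, ← Category.assoc,
    ← Category.assoc]
  congr 1
  rw [← cancel_mono ((cech f G').iCycles 0)]
  simp only [Category.assoc, HomologicalComplex.liftCycles_i]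
  refine (congrArg (_ ≫ ·) (HomologicalComplex.cyclesMap_i _ _)).trans ?_
  refine ((Category.assoc _ _ _).symm.trans ?_).trans e
  exact congrArg (· ≫ ((cechF f).map φ).f 0) (HomologicalComplex.liftCycles_i _ _ _ _ _)

theorem isZero_homology (hG : Injective G) (p : ℕ) : IsZero ((cech f G).homology (p + 1)) := by
  refine (HomologicalComplex.exactAt_iff_isZero_homology _ _).1 ?_
  rw [HomologicalComplex.exactAt_iff' _ p (p + 1) (p + 2) (by simp) (by simp),
    ShortComplex.ab_exact_iff]
  intro c hc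
  have : Injective G.obj := Injective.injective_of_adjoint
    (sheafificationAdjunction (EtFppf.J Y) AddCommGrpCat.{u + 1}) G
  have hd : Kd f (p + 1) ≫ c = 0 := (cech_d_apply f G (p + 1) c).symm.trans hc
  let hex := CechPsh.Nerve.exact (Uf := Uf (vY f)) p
  exact ⟨hex.descToInjective c hd,
    (cech_d_apply f G p _).trans (hex.comp_descToInjective c hd)⟩

end rows

/-! ### Cohomology of the objects -/

section coh

variable {T : Scheme.{u}} (t : T ⟶ Y) [BigSite.AEtCont Scheme.fppfPrecoverage Y]
  [BigSite.AEtCont Scheme.fppfPrecoverage T]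

/-- Sections over `t`, as a functor. -/
abbrev secF : EtFppf.AbF Y ⥤ AddCommGrpCat.{u + 1} :=
  sheafToPresheaf _ _ ⋙ (evaluation _ _).obj (op (Over.mk t))

instance : (secF t).Additive where

/-- The terminal object of the big site of `T`, over `Y`. -/
def idObjIso : Over.mk t ≅ (Over.map t).obj (Over.mk (𝟙 T)) :=
  Over.isoMk (Iso.refl T) ((Category.id_comp _).trans (Category.id_comp t))

/-- Sections over `t` are maps from the constant sheaf on the big site of `T`. -/
def secIso (G : EtFppf.AbF Y) :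
    (HomExt.homFunctor ((constantSheaf (QuotSh.J Scheme.fppfPrecoverage T) AddCommGrpCat.{u + 1}).obj
      (AddCommGrpCat.of (ULift.{u + 1} ℤ)))).obj
        ((BigSite.pullBig Scheme.fppfPrecoverage t AddCommGrpCat.{u + 1}).obj G) ≅ (secF t).obj G :=
  (((constantSheafAdj (QuotSh.J Scheme.fppfPrecoverage T) AddCommGrpCat.{u + 1}
    (Over.mkIdTerminal (X := T))).homAddEquiv _ _).trans
      (AddCommGrpCat.uliftZMultiplesAddEquiv _)).toAddCommGrpIso ≪≫
    G.obj.mapIso (idObjIso t).op

theorem secIso_naturality {G G' : EtFppf.AbF Y} (φ : G ⟶ G')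
    (c : (constantSheaf (QuotSh.J Scheme.fppfPrecoverage T) AddCommGrpCat.{u + 1}).obj
      (AddCommGrpCat.of (ULift.{u + 1} ℤ)) ⟶
        (BigSite.pullBig Scheme.fppfPrecoverage t AddCommGrpCat.{u + 1}).obj G) :
    φ.hom.app (op (Over.mk t)) ((secIso t G).hom c) =
      (secIso t G').hom (c ≫ (BigSite.pullBig Scheme.fppfPrecoverage t AddCommGrpCat.{u + 1}).map φ) := by
  let adj := constantSheafAdj (QuotSh.J Scheme.fppfPrecoverage T) AddCommGrpCat.{u + 1}
    (Over.mkIdTerminal (X := T))
  let w : AddCommGrpCat.of (ULift.{u + 1} ℤ) ⟶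
      G.obj.obj (op ((Over.map t).obj (Over.mk (𝟙 T)))) := adj.homEquiv _ _ c
  change φ.hom.app (op (Over.mk t)) (G.obj.map (idObjIso t).hom.op (w ⟨1⟩)) =
    G'.obj.map (idObjIso t).hom.op
      ((adj.homEquiv _ _ (c ≫ (BigSite.pullBig Scheme.fppfPrecoverage t
        AddCommGrpCat.{u + 1}).map φ)) ⟨1⟩)
  rw [Adjunction.homEquiv_naturality_right]
  exact NatTrans.naturality_apply φ.hom (idObjIso t).hom.op (w ⟨1⟩)

theorem nonempty_homology (F : EtCoh.Ab Y) (R : InjectiveResolution ((EtFppf.aPull Y).obj F))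
    (q : ℕ) :
    Nonempty ((((secF t).mapHomologicalComplex _).obj R.cocomplex).homology q ≅
      AddCommGrpCat.of (EtCoh.H T ((EtCoh.pull t).obj F) q)) := by
  let A := (constantSheaf (QuotSh.J Scheme.fppfPrecoverage T) AddCommGrpCat.{u + 1}).obj
      (AddCommGrpCat.of (ULift.{u + 1} ℤ))
  let R' := BigEt.Derived.mapRes R (BigSite.pullBig Scheme.fppfPrecoverage t AddCommGrpCat.{u + 1})
  let e : HomExt.homCx R' A ≅ ((secF t).mapHomologicalComplex _).obj R.cocomplex :=
    HomologicalComplex.Hom.isoOfComponents (fun n => secIso t (R.cocomplex.X n)) fun i j _ => by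
      ext c
      exact secIso_naturality t (R.cocomplex.d i j) c
  obtain ⟨c⟩ := Coh.nonempty_H ((EtCoh.pull t).obj F) q
  exact ⟨(HomologicalComplex.homologyFunctor _ _ q).mapIso e.symm ≪≫
    HomExt.homologyIso R' q ≪≫
    AddEquiv.toAddCommGrpIso
      ((BigEt.PiPull.hCongr ((BigEt.PiPull.piPullIso t Scheme.fppfPrecoverage).app F).symm q).trans
        c.symm)⟩

end coh

theorem aEtCont (T : Scheme.{u}) : BigSite.AEtCont Scheme.fppfPrecoverage T := by
  refine Functor.isContinuous_of_coverPreserving (compatiblePreservingOfFlat _ _) ⟨fun {U} S hS => ?_⟩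
  choose V q hq hv using (EtSite.Basic.mem_topology_iff S).1 hS
  refine GrothendieckTopology.superset_covering _ ?_
    (EtGerm.Univ.ofArrows_mem Scheme.fppfPrecoverage BigSite.etalePrecoverage_le_fppfPrecoverage
      (ι := ULift.{u + 1} U.left) (fun u => (EtFppf.a T).obj (V u.down))
      (fun u => (EtFppf.a T).map (q u.down))
      (fun u => EtSite.Fiber.etale_left (q u.down)) fun u => ⟨⟨u⟩, hv u⟩)
  rintro W _ ⟨_, g, _, ⟨i⟩, rfl⟩
  exact Sieve.downward_closed _ (Sieve.image_mem_functorPushforward _ _ (hq i.down)) g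

theorem exists_spectralSequence [Flat f] [LocallyOfFinitePresentation f] [Surjective f]
    (F : EtCoh.Ab Y) :
    ∃ (E : CohomologicalSpectralSequence AddCommGrpCat.{u + 1} 1)
      (a : SpSeq.Abutment E (fun n : ℤ =>
        if 0 ≤ n then AddCommGrpCat.of (EtCoh.H Y F n.toNat) else AddCommGrpCat.of PUnit.{u + 2})),
      (∀ n, a.IsFinite n) ∧ SpSeq.IsBounded E ∧
      ∀ p q : ℤ, Nonempty ((E.page 1 le_rfl).X (p, q) ≅
        (if 0 ≤ p ∧ 0 ≤ q then
          AddCommGrpCat.of (EtCoh.H (widePullback Y (fun _ : Fin (p.toNat + 1) => X) (fun _ => f))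
            ((EtCoh.pull (WidePullback.base (fun _ : Fin (p.toNat + 1) => f) :
              widePullback Y (fun _ : Fin (p.toNat + 1) => X) (fun _ => f) ⟶ Y)).obj F) q.toNat)
         else AddCommGrpCat.of PUnit.{u + 2})) := by
  have := aEtCont Y
  let R := injectiveResolution ((EtFppf.aPull Y).obj F)
  let D := ((cechF f).mapHomologicalComplex (ComplexShape.up ℕ)).obj R.cocomplex
  have hp : IsZero (AddCommGrpCat.of PUnit.{u + 2}) := AddCommGrpCat.isZero_of_subsingleton _
  refine Groth.Agent.H30.E1.exists_spectralSequence D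
    (fun q p => isZero_homology f (R.cocomplex.X q) (R.injective q) p) _
    (fun n => ?_) (fun n hn => ?_) _ (fun p q => ?_) (fun p q hpq => ?_)
  · let e : ((secF (𝟙 Y)).mapHomologicalComplex _).obj R.cocomplex ≅ Groth.Agent.H30.E1.rowsH0 D :=
      HomologicalComplex.Hom.isoOfComponents
        (fun q => @asIso _ _ _ _ (toH0 f (R.cocomplex.X q)) (isIso_toH0 f _)) fun i j _ =>
        toH0_naturality f (R.cocomplex.d i j)
    obtain ⟨c⟩ := nonempty_homology (𝟙 Y) F R n
    refine ⟨(HomologicalComplex.homologyFunctor _ _ n).mapIso e.symm ≪≫ c ≪≫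
      (AddEquiv.toAddCommGrpIso (X := AddCommGrpCat.of (EtCoh.H Y F n))
        (Y := AddCommGrpCat.of (EtCoh.H Y ((EtCoh.pull (𝟙 Y)).obj F) n))
        (AddEquiv.ofBijective _ (EtRad.Push.Hpull_bijective (𝟙 Y) F n))).symm ≪≫
        eqToIso ?_⟩
    rw [if_pos (Int.natCast_nonneg n), Int.toNat_natCast]
  · rw [if_neg (not_le.2 hn)]; exact hp
  · have := aEtCont (widePullback Y (fun _ : Fin (p + 1) => X) (fun _ => f))
    let e : Groth.Agent.H30.E1.col D p ≅
        ((secF (base f (p + 1))).mapHomologicalComplex _).obj R.cocomplex :=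
      HomologicalComplex.Hom.isoOfComponents (fun q => evIso f p (R.cocomplex.X q)) fun i j _ =>
        (evIso_naturality f (R.cocomplex.d i j) p).symm
    obtain ⟨c⟩ := nonempty_homology (base f (p + 1)) F R q
    refine ⟨(HomologicalComplex.homologyFunctor _ _ q).mapIso e ≪≫ c ≪≫ eqToIso ?_⟩
    rw [if_pos ⟨Int.natCast_nonneg p, Int.natCast_nonneg q⟩]
    rfl
  · rw [if_neg hpq]; exact hp

end Groth.Agent.Lib.FppfEt.Descent
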