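import Groth.Agent.Lib.FppfEt.Resolution
import Groth.Agent.Lib.EtSite.PushStalk

/-!
# Direct images on big sites along finite morphisms

Cocycles over the base change of a finite morphism are coboundaries etale locally on the base; so the
higher direct images vanish.
-/

set_option autoImplicit false

universe u

open CategoryTheory CategoryTheory.Limits AlgebraicGeometry Opposite

noncomputable section

namespace Groth.Agent.Lib.FppfEt.Finite

open Groth.Agent.Lib.FppfEt.Resolution Groth.Agent.Lib.EtGerm.Univ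

variable {K : Precoverage Scheme.{u}} {X Y : Scheme.{u}} (f : X ⟶ Y) [IsFinite f]
  [BigSite.AEtCont K X] (hK : Scheme.etalePrecoverage ≤ K)

include hK in
/-- Surjectivity etale locally passes to the base of a finite morphism. -/
theorem exists_lift_base {A B : BigSite.Ab K X} {φ : A ⟶ B} (hφ : LocSurj φ) (T : Over Y)
    (q : B.obj.obj (op ((Over.pullback f).obj T))) (t : T.left) :
    ∃ (T' : Over Y) (g : T' ⟶ T), Etale g.left ∧ t ∈ Set.range g.left.base ∧
      ∃ i : A.obj.obj (op ((Over.pullback f).obj T')),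
        φ.hom.app (op ((Over.pullback f).obj T')) i = B.obj.map ((Over.pullback f).map g).op q := by
  classical
  let TX : Over X := (Over.pullback f).obj T
  let y : TX.left ⟶ T.left := pullback.fst T.hom f
  have : IsFinite y := (inferInstance : IsFinite (pullback.fst T.hom f))
  let η := EtSite.Push.algPoint T.left t
  let Ω := AlgebraicClosure (T.left.residueField t)
  choose E e he hmem i hi using fun ξ : {ξ : Spec (CommRingCat.of Ω) ⟶ TX.left // ξ ≫ y = η} =>
    hφ TX q (ξ.1.base default)
  have hlift : ∀ ξ, ∃ l : Spec (CommRingCat.of Ω) ⟶ (E ξ).left, l ≫ (e ξ).left = ξ.1 := fun ξ => by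
    obtain ⟨w, hw⟩ := hmem ξ
    have := he ξ
    obtain ⟨l, hl, -⟩ := Scheme.exists_fac_of_etale_of_isSepClosed (e ξ).left ξ.1 w hw
    exact ⟨l, hl⟩
  choose l hl using hlift
  obtain ⟨U, u, p, hp, hu, n, D, o, idx, b, ho, hcov, hdisj, hb, -⟩ :=
    Split.exists_split y η (fun ξ => (E ξ).left) (fun ξ => (e ξ).left) he l hl
  let T' : Over Y := Over.mk (u ≫ T.hom)
  let g : T' ⟶ T := Over.homMk u rfl
  let TX' : Over X := (Over.pullback f).obj T'
  let gX : TX' ⟶ TX := (Over.pullback f).map g
  let θ : pullback u y ≅ pullback (u ≫ T.hom) f := pullbackRightPullbackFstIso T.hom f u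
  have hθ : θ.hom ≫ gX.left = pullback.snd u y := by
    refine pullback.hom_ext ?_ ?_
    · change (θ.hom ≫ pullback.lift (pullback.fst (u ≫ T.hom) f ≫ u) (pullback.snd (u ≫ T.hom) f) _) ≫
        pullback.fst T.hom f = _
      refine (Category.assoc _ _ _).trans ((θ.hom ≫= pullback.lift_fst _ _ _).trans ?_)
      refine (pullbackRightPullbackFstIso_hom_fst_assoc _ _ _ _).trans ?_
      exact pullback.condition
    · change (θ.hom ≫ pullback.lift (pullback.fst (u ≫ T.hom) f ≫ u) (pullback.snd (u ≫ T.hom) f) _) ≫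
        pullback.snd T.hom f = _
      refine (Category.assoc _ _ _).trans ((θ.hom ≫= pullback.lift_snd _ _ _).trans ?_)
      exact pullbackRightPullbackFstIso_hom_snd _ _ _
  let Z : Fin n → Over X := fun j => Over.mk ((o j ≫ θ.hom) ≫ TX'.hom)
  let oj : ∀ j, Z j ⟶ TX' := fun j => Over.homMk (o j ≫ θ.hom) rfl
  have hoj : ∀ j, IsOpenImmersion (oj j).left := fun j => by
    have := ho j
    exact (inferInstance : IsOpenImmersion (o j ≫ θ.hom))
  let bj : ∀ j, Z j ⟶ E (idx j) := fun j => Over.homMk (b j) (by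
    change b j ≫ (E (idx j)).hom = (o j ≫ θ.hom) ≫ TX'.hom
    rw [← Over.w (e (idx j)), ← Category.assoc, hb, ← Over.w gX, ← hθ]
    simp only [Category.assoc])
  obtain ⟨s, hs⟩ := Split.exists_glue K hK A Z oj hoj (fun x => by
      obtain ⟨j, d, hd⟩ := hcov (θ.inv.base x)
      refine ⟨j, d, ?_⟩
      change θ.hom.base ((o j).base d) = x
      rw [hd, ← Scheme.Hom.comp_apply, Iso.inv_hom_id]
      rfl)
    (fun j k d d' h => hdisj j k d d' (θ.hom.isOpenEmbedding.injective h))
    fun j => A.obj.map (bj j).op (i (idx j))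
  refine ⟨T', g, hu, ⟨p.base default, ?_⟩, s, ?_⟩
  · exact (congrArg (fun m => m.base default) hp).trans (EtSite.Push.algPoint_apply _ t default)
  · refine sections_ext K hK B
      (ι := ULift.{u + 1} (Fin n)) (fun j => Z j.down) (fun j => oj j.down)
      (fun j => by have := hoj j.down; exact (inferInstance : Etale (oj j.down).left))
      (fun x => by
        obtain ⟨j, d, hd⟩ := hcov (θ.inv.base x)
        refine ⟨⟨j⟩, d, ?_⟩
        change θ.hom.base ((o j).base d) = x
        rw [hd, ← Scheme.Hom.comp_apply, Iso.inv_hom_id]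
        rfl) _ _ fun j => ?_
    refine (NatTrans.naturality_apply φ.hom (oj j.down).op s).symm.trans ?_
    rw [hs, map_map]
    refine (NatTrans.naturality_apply φ.hom (bj j.down).op _).trans ?_
    rw [hi, map_map]
    refine map_congr _ (Over.OverMorphism.ext ?_) q
    change b j.down ≫ (e (idx j.down)).left = (o j.down ≫ θ.hom) ≫ gX.left
    rw [hb, Category.assoc, hθ]

/-- The complex of direct images of a resolution. -/
abbrev pushCx {G : BigSite.Ab K X} (R : InjectiveResolution G) :
    CochainComplex (BigSite.Ab K Y) ℕ :=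
  ((BigSite.pushBig K f AddCommGrpCat.{u + 1}).mapHomologicalComplex (ComplexShape.up ℕ)).obj
    R.cocomplex

include hK in
theorem exactAt_pushCx {G : BigSite.Ab K X} (R : InjectiveResolution G)
    (h : ∀ k, LocSurj (stage R k).g) (k : ℕ) : (pushCx f R).ExactAt (k + 1) := by
  rw [HomologicalComplex.exactAt_iff' _ k (k + 1) (k + 2) (by simp) (by simp),
    ShortComplex.exact_iff_epi_kernel_lift]
  let P := BigSite.pushBig K f AddCommGrpCat.{u + 1}
  let a : P.obj (R.cocomplex.X k) ⟶ P.obj (R.cocomplex.X (k + 1)) :=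
    P.map (R.cocomplex.d k (k + 1))
  let b : P.obj (R.cocomplex.X (k + 1)) ⟶ P.obj (R.cocomplex.X (k + 2)) :=
    P.map (R.cocomplex.d (k + 1) (k + 2))
  have hab : a ≫ b = 0 := by
    rw [← Functor.map_comp, R.cocomplex.d_comp_d, Functor.map_zero]
  change Epi (kernel.lift b a hab)
  have : Sheaf.IsLocallySurjective (kernel.lift b a hab) := ⟨fun {T} y => by
    let x : (R.cocomplex.X (k + 1)).obj.obj (op ((Over.pullback f).obj T)) :=
      (kernel.ι b).hom.app (op T) y
    have hx : (R.cocomplex.d (k + 1) (k + 2)).hom.app (op ((Over.pullback f).obj T)) x = 0 :=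
      ConcreteCategory.congr_hom (congrArg (fun m => m.hom.app (op T)) (kernel.condition b)) y
    obtain ⟨q, hq⟩ := exists_coboundary.exists_kernel_app (R.cocomplex.d (k + 1) (k + 2)) x hx
    choose T' g hg hmem i hi using exists_lift_base f hK (h k) T q
    refine GrothendieckTopology.superset_covering _ ?_ (ofArrows_mem K hK
      (fun t : ULift.{u + 1} T.left => T' t.down) (fun t => g t.down) (fun t => hg t.down)
      fun t => ⟨⟨t⟩, hmem t⟩)
    refine (Sieve.generate_le_iff _ _).2 ?_
    rintro _ _ ⟨⟨t⟩⟩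
    refine ⟨i t, ?_⟩
    have : Mono (kernel.ι b).hom :=
      inferInstanceAs (Mono ((sheafToPresheaf _ _).map (kernel.ι b)))
    refine (AddCommGrpCat.mono_iff_injective ((kernel.ι b).hom.app (op (T' t)))).1 inferInstance ?_
    refine Eq.trans ?_ (NatTrans.naturality_apply (kernel.ι b).hom (g t).op y).symm
    refine (ConcreteCategory.congr_hom (congrArg (fun m => m.hom.app (op (T' t)))
      (kernel.lift_ι b a hab)) (i t)).trans ?_
    have e := congrArg ((kernel.ι (R.cocomplex.d (k + 1) (k + 2))).hom.app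
      (op ((Over.pullback f).obj (T' t)))) (hi t)
    refine Eq.trans ?_ (e.trans ((NatTrans.naturality_apply
      (kernel.ι (R.cocomplex.d (k + 1) (k + 2))).hom ((Over.pullback f).map (g t)).op q).trans
        (congrArg _ hq)))
    exact (ConcreteCategory.congr_hom (congrArg
      (fun m => m.hom.app (op ((Over.pullback f).obj (T' t))))
      (kernel.lift_ι _ _ (R.cocomplex.d_comp_d k (k + 1) (k + 2)))) (i t)).symm⟩
  exact (Sheaf.isLocallySurjective_iff_epi' _ _).1 this

include hK in
/-- Higher direct images on big sites along finite morphisms vanish. -/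
theorem isZero_Rpush {G : BigSite.Ab K X} (R : InjectiveResolution G)
    (h : ∀ k, LocSurj (stage R k).g) (q : ℕ) (hq : 0 < q) :
    IsZero ((BigSite.RpushBig K f q).obj G) := by
  obtain ⟨k, rfl⟩ := Nat.exists_eq_succ_of_ne_zero hq.ne'
  exact (exactAt_pushCx f hK R h k).isZero_homology.of_iso
    (R.isoRightDerivedObj (BigSite.pushBig K f AddCommGrpCat.{u + 1}) (k + 1))

set_option backward.isDefEq.respectTransparency.types false in
/-- On the etale site epimorphisms are surjective etale locally. -/
theorem locSurj_of_epi {A B : BigSite.Ab Scheme.etalePrecoverage X} (φ : A ⟶ B) [Epi φ] :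
    LocSurj φ := by
  intro T q t
  have := (Sheaf.isLocallySurjective_iff_epi' _ φ).2 ‹Epi φ›
  have hmem := Presheaf.imageSieve_mem (QuotSh.J Scheme.etalePrecoverage X) φ.hom q
  rw [GrothendieckTopology.mem_over_iff] at hmem
  obtain ⟨P, hP, hle⟩ := (Precoverage.mem_toGrothendieck_iff_of_isStableUnderComposition
    (J := Scheme.precoverage @Etale)).1 hmem
  obtain ⟨ι, W, w, rfl⟩ := P.exists_eq_ofArrows
  obtain ⟨hsurj, hprop⟩ := (Scheme.ofArrows_mem_precoverage_iff _).1 hP
  obtain ⟨j, hj⟩ := hsurj t
  obtain ⟨i₀, hi₀⟩ := (Sieve.overEquiv_iff _ (w j)).1 (hle _ _ ⟨j⟩)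
  exact ⟨_, _, hprop j, hj, i₀, hi₀⟩

theorem locSurj_stage {G : BigSite.Ab Scheme.etalePrecoverage X} (R : InjectiveResolution G)
    (k : ℕ) : LocSurj (stage R k).g :=
  have := (shortExact_stage R k).epi_g
  locSurj_of_epi _

end Groth.Agent.Lib.FppfEt.Finite
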