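import Groth.Agent.Lib.FppfEt.Nerve
import Groth.Agent.Lib.FppfEt.Split
import Groth.Agent.Lib.QFRefine.Etale
import Groth.Prelude.Def_EtFppf
import Mathlib.CategoryTheory.Sites.LocallySurjective

/-!
# Sheaves whose Cech complexes along finite flat covers are exact etale locally on the base

For such a sheaf `G` and an embedding of `G` into an injective sheaf, the projection to the quotient is
surjective etale locally, and the quotient has the same property.
-/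

set_option autoImplicit false

universe u

open CategoryTheory CategoryTheory.Limits AlgebraicGeometry Opposite

noncomputable section

namespace Groth.Agent.Lib.FppfEt.LocAcyclic

open Groth.Agent.Lib.FppfEt.Nerve Groth.Agent.Lib.EtGerm.Univ

variable {X : Scheme.{u}}

/-- A finite flat covering. -/
structure Cov {T V : Over X} (v : V ⟶ T) : Prop where
  finite : IsFinite v.left
  flat : Flat v.left
  lfp : LocallyOfFinitePresentation v.left
  surj : Surjective v.left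

theorem Cov.bc {T V T' : Over X} {v : V ⟶ T} (h : Cov v) (g : T' ⟶ T) :
    Cov (bcMap v g) := by
  have := h.finite
  have := h.flat
  have := h.lfp
  have := h.surj
  exact ⟨(inferInstance : IsFinite (pullback.fst g.left v.left)),
    (inferInstance : Flat (pullback.fst g.left v.left)),
    (inferInstance : LocallyOfFinitePresentation (pullback.fst g.left v.left)),
    (inferInstance : Surjective (pullback.fst g.left v.left))⟩

/-- A finite flat covering is a covering. -/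
theorem Cov.mem {T V : Over X} {v : V ⟶ T} (h : Cov v) :
    Sieve.ofArrows (fun _ : PUnit.{u + 2} => V) (fun _ => v) ∈ EtFppf.J X T := by
  rw [GrothendieckTopology.mem_over_iff, Sieve.overEquiv_ofArrows]
  refine Precoverage.generate_mem_toGrothendieck
    ((Scheme.ofArrows_mem_precoverage_iff _).2 ⟨fun t => ?_, fun _ => ⟨h.flat, h.lfp⟩⟩)
  obtain ⟨w, hw⟩ := h.surj.surj t
  exact ⟨PUnit.unit, w, hw⟩

theorem Cov.isSheafFor {T V : Over X} {v : V ⟶ T} (h : Cov v) (L : EtFppf.AbF X) :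
    (Presieve.ofArrows (fun _ : PUnit.{u + 2} => V) fun _ => v).IsSheafFor
      (L.obj ⋙ forget AddCommGrpCat.{u + 1}) :=
  (Presieve.isSheafFor_iff_generate _).2
    (((isSheaf_iff_isSheaf_of_type _ _).1 (Presheaf.isSheaf_comp_of_isSheaf _ L.obj
      (forget AddCommGrpCat.{u + 1}) L.property)) _ h.mem)

/-- Surjectivity on sections etale locally. -/
def EtSurj {A B : EtFppf.AbF X} (φ : A ⟶ B) : Prop :=
  ∀ (T : Over X) (q : B.obj.obj (op T)) (t : T.left), ∃ (T' : Over X) (g : T' ⟶ T),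
    Etale g.left ∧ t ∈ Set.range g.left.base ∧
      ∃ i : A.obj.obj (op T'), φ.hom.app (op T') i = B.obj.map g.op q

/-- Exactness of the Cech complexes of finite flat covers etale locally on the base. -/
def LA (G : EtFppf.AbF X) : Prop :=
  ∀ (T V : Over X) (v : V ⟶ T), Cov v → ∀ (n : ℕ) (c : Kn v (n + 2) ⟶ G.obj),
    dv v (n + 1) ≫ c = 0 → ∀ t : T.left, ∃ (T' V' : Over X) (v' : V' ⟶ T') (φ : Chg v' v),
      Cov v' ∧ Etale φ.g.left ∧ t ∈ Set.range φ.g.left.base ∧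
        ∃ b : Kn v' (n + 1) ⟶ G.obj, φ.kmap _ ≫ c = dv v' n ≫ b

theorem exists_lift_finite {A B : EtFppf.AbF X} {φ : A ⟶ B} (hφ : EtSurj φ) {T Y : Over X}
    (y : Y ⟶ T) [IsFinite y.left] (q : B.obj.obj (op Y)) (t : T.left) :
    ∃ (T' : Over X) (g : T' ⟶ T), Etale g.left ∧ t ∈ Set.range g.left.base ∧
      ∃ i : A.obj.obj (op (bcObj y g)),
        φ.hom.app (op (bcObj y g)) i = B.obj.map (bc y g).gV.op q := by
  classical
  let η := EtSite.Push.algPoint T.left t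
  let Ω := AlgebraicClosure (T.left.residueField t)
  choose E e he hmem i hi using fun ξ : {ξ : Spec (CommRingCat.of Ω) ⟶ Y.left // ξ ≫ y.left = η} =>
    hφ Y q (ξ.1.base default)
  have hlift : ∀ ξ, ∃ l : Spec (CommRingCat.of Ω) ⟶ (E ξ).left, l ≫ (e ξ).left = ξ.1 := fun ξ => by
    obtain ⟨w, hw⟩ := hmem ξ
    have := he ξ
    obtain ⟨l, hl, -⟩ := Scheme.exists_fac_of_etale_of_isSepClosed (e ξ).left ξ.1 w hw
    exact ⟨l, hl⟩
  choose l hl using hlift
  obtain ⟨U, u, p, hp, hu, n, D, o, idx, b, ho, hcov, hdisj, hb, -⟩ :=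
    Split.exists_split y.left η (fun ξ => (E ξ).left) (fun ξ => (e ξ).left) he l hl
  let T' : Over X := Over.mk (u ≫ T.hom)
  let g : T' ⟶ T := Over.homMk u rfl
  let Z : Fin n → Over X := fun j => Over.mk (o j ≫ (bcObj y g).hom)
  let oj : ∀ j, Z j ⟶ bcObj y g := fun j => Over.homMk (o j) rfl
  let bj : ∀ j, Z j ⟶ E (idx j) := fun j => Over.homMk (b j) (by
    change b j ≫ (E (idx j)).hom = o j ≫ pullback.fst u y.left ≫ u ≫ T.hom
    rw [← Over.w (e (idx j)), ← Category.assoc, hb, Category.assoc, ← Over.w y,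
      pullback.condition_assoc])
  obtain ⟨s, hs⟩ := Split.exists_glue Scheme.fppfPrecoverage
    BigSite.etalePrecoverage_le_fppfPrecoverage A Z oj ho hcov hdisj
    fun j => A.obj.map (bj j).op (i (idx j))
  refine ⟨T', g, hu, ⟨p.base default, ?_⟩, s, ?_⟩
  · exact (congrArg (fun m => m.base default) hp).trans (EtSite.Push.algPoint_apply _ t default)
  · refine sections_ext Scheme.fppfPrecoverage BigSite.etalePrecoverage_le_fppfPrecoverage B
      (ι := ULift.{u + 1} (Fin n)) (fun j => Z j.down) (fun j => oj j.down)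
      (fun j => by have := ho j.down; exact (inferInstance : Etale (o j.down)))
      (fun x => by obtain ⟨j, d, hd⟩ := hcov x; exact ⟨⟨j⟩, d, hd⟩) _ _ fun j => ?_
    refine (NatTrans.naturality_apply φ.hom (oj j.down).op s).symm.trans ?_
    rw [hs, map_map]
    refine (NatTrans.naturality_apply φ.hom (bj j.down).op _).trans ?_
    rw [hi, map_map]
    exact map_congr _ (Over.OverMorphism.ext (hb j.down)) q

variable {S : ShortComplex (EtFppf.AbF X)} (hS : S.ShortExact)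

include hS in
theorem exists_lift_ker {P : (Over X)ᵒᵖ ⥤ AddCommGrpCat.{u + 1}} (c : P ⟶ S.X₂.obj)
    (hc : c ≫ S.g.hom = 0) : ∃ a : P ⟶ S.X₁.obj, a ≫ S.f.hom = c := by
  have := hS.mono_f
  let hl := KernelFork.mapIsLimit _ hS.fIsKernel
    (sheafToPresheaf (EtFppf.J X) AddCommGrpCat.{u + 1})
  exact ⟨hl.lift (KernelFork.ofι c hc), Fork.IsLimit.lift_ι hl⟩

include hS in
theorem cancel_f {P : (Over X)ᵒᵖ ⥤ AddCommGrpCat.{u + 1}} (a : P ⟶ S.X₁.obj)
    (h : a ≫ S.f.hom = 0) : a = 0 := by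
  have := hS.mono_f
  have : Mono S.f.hom :=
    inferInstanceAs (Mono ((sheafToPresheaf (EtFppf.J X) AddCommGrpCat.{u + 1}).map S.f))
  rwa [← cancel_mono S.f.hom, zero_comp]

theorem f_g : S.f.hom ≫ S.g.hom = 0 := congrArg (fun m => m.hom) S.zero

theorem reindex_pair {T V Z : Over X} {v : V ⟶ T} (f : Z ⟶ T) (l : Fin 2 → (Z ⟶ V))
    (h : ∀ a, l a ≫ v = f) (a : Fin 2) (k : Z ⟶ V) (hk : l (a.succAbove 0) = k) :
    CechPsh.Nerve.reindex a.succAbove (mkT f l h) =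
      CechPsh.Nerve.res k (mkT (v := v) (α := Fin 1) v (fun _ => 𝟙 V) fun _ => Category.id_comp v) :=
  simp_ext (by rw [← hk]; exact (h _).symm) fun b => by
    obtain rfl : b = 0 := Subsingleton.elim _ _
    exact hk.trans (Category.comp_id k).symm

include hS in
theorem etSurj_of_LA [Injective S.X₂] (hG : LA S.X₁) : EtSurj S.g := by
  classical
  intro T q t
  have := hS.epi_g
  have := (Sheaf.isLocallySurjective_iff_epi' _ S.g).2 this
  have : Scheme.fppfPrecoverage.{u}.HasIsos := ⟨fun f _ => by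
    rw [Scheme.fppfPrecoverage, Scheme.singleton_mem_precoverage_iff]
    exact ⟨(inferInstance : Surjective f).surj, inferInstance, inferInstance⟩⟩
  have hmem := Presheaf.imageSieve_mem (EtFppf.J X) S.g.hom q
  rw [GrothendieckTopology.mem_over_iff,
    Precoverage.mem_toGrothendieck_iff_of_isStableUnderComposition] at hmem
  obtain ⟨P, hP, hle⟩ := hmem
  obtain ⟨ι, W, w, rfl⟩ := P.exists_eq_ofArrows
  obtain ⟨hsurj, hprop⟩ := (Scheme.ofArrows_mem_precoverage_iff _).1 hP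
  obtain ⟨j, p, hp⟩ := hsurj t
  obtain ⟨i₀, hi₀⟩ := (Sieve.overEquiv_iff _ (w j)).1 (hle _ _ ⟨j⟩)
  have : Flat (w j) := (hprop j).1
  have : LocallyOfFinitePresentation (w j) := (hprop j).2
  obtain ⟨U, V₀, u, v₀, y, r, hu, huy, -, hfin, hfl, hlfp, hsv, hr⟩ :=
    QFRefine.Etale.exists_etale_finite (w j) p
  let T₁ : Over X := Over.mk (u ≫ T.hom)
  let g₁ : T₁ ⟶ T := Over.homMk u rfl
  let V : Over X := Over.mk (v₀ ≫ u ≫ T.hom)
  let v : V ⟶ T₁ := Over.homMk v₀ rfl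
  let r' : V ⟶ Over.mk (w j ≫ T.hom) := Over.homMk r (by
    change r ≫ w j ≫ T.hom = v₀ ≫ u ≫ T.hom
    rw [reassoc_of% hr])
  have hcov : Cov v := ⟨hfin, hfl, hlfp, hsv⟩
  let i : S.X₂.obj.obj (op V) := S.X₂.obj.map r'.op i₀
  have hi : S.g.hom.app (op V) i = S.X₃.obj.map (v ≫ g₁).op q := by
    refine (NatTrans.naturality_apply S.g.hom r'.op i₀).trans ?_
    rw [hi₀, map_map]
    exact map_congr _ (Over.OverMorphism.ext hr) q
  obtain ⟨P₁, -⟩ := exists_pow (v := v) 1 @Flat hfl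
  let ψ : Kn v 1 ⟶ S.X₂.obj := ofElem P₁ (S.X₂.obj.map (lft P₁.univ 0).op i)
  have hψ : ∀ (Z : Over X) (s : CechPsh.Nerve.T (Uf v) (Fin 1) Z),
      evK ψ s = S.X₂.obj.map (lft s 0).op i := by
    intro Z s
    obtain ⟨g, rfl⟩ := P₁.exists_res s
    rw [evK_ofElem, map_map]
    rfl
  have hψg : ∀ (Z : Over X) (s : CechPsh.Nerve.T (Uf v) (Fin 1) Z),
      evK (ψ ≫ S.g.hom) s = S.X₃.obj.map (s.1.1 ≫ g₁).op q := by
    intro Z s
    rw [evK_comp, hψ]
    refine (NatTrans.naturality_apply S.g.hom (lft s 0).op i).trans ?_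
    rw [hi, map_map, ← Category.assoc, lft_w]
  have hd : (dv v 0 ≫ ψ) ≫ S.g.hom = 0 := hom_ext_K fun Z s => by
    rw [Category.assoc, evK_dv, Fin.sum_univ_two, hψg, hψg]
    change (1 : ℤ) • _ + (-1 : ℤ) • S.X₃.obj.map (s.1.1 ≫ g₁).op q = 0
    simp only [one_smul, neg_smul]
    exact add_neg_cancel _
  obtain ⟨c, hc⟩ := exists_lift_ker hS _ hd
  have hc0 : dv v 1 ≫ c = 0 := cancel_f hS _ (by
    rw [Category.assoc, hc, ← Category.assoc]
    exact (congrArg (· ≫ ψ) (CechPsh.Nerve.d_comp_d (Uf := Uf v) 0)).trans zero_comp)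
  obtain ⟨T₂, V₂, v₂, φ, hcov₂, het, ⟨t₂, ht₂⟩, b, hb⟩ := hG T₁ V v hcov 0 c hc0 y
  let ψ' : Kn v₂ 1 ⟶ S.X₂.obj := φ.kmap _ ≫ ψ - b ≫ S.f.hom
  have hd' : dv v₂ 0 ≫ ψ' = 0 := by
    simp only [ψ', Preadditive.comp_sub]
    rw [← φ.kmap_dv, ← hc, reassoc_of% hb, sub_self]
  let s₀ : CechPsh.Nerve.T (Uf v₂) (Fin 1) V₂ :=
    mkT v₂ (fun _ => 𝟙 V₂) fun _ => Category.id_comp v₂
  let e := evK ψ' s₀
  obtain ⟨i₂, hi₂, -⟩ := (Presieve.isSheafFor_arrows_iff _ _).1 (hcov₂.isSheafFor S.X₂)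
    (fun _ => e) fun _ _ Z a a' (haa : a ≫ v₂ = a' ≫ v₂) => by
      let s : CechPsh.Nerve.T (Uf v₂) (Fin 2) Z := mkT (a ≫ v₂) ![a, a'] fun k => by
        fin_cases k
        · rfl
        · exact haa.symm
      have h0 : ∑ k : Fin 2, (-1 : ℤ) ^ (k : ℕ) • evK ψ' (CechPsh.Nerve.reindex k.succAbove s) = 0 :=
        (evK_dv 0 ψ' s).symm.trans (congrArg (fun c => evK c s) hd')
      rw [Fin.sum_univ_two] at h0
      rw [reindex_pair (a ≫ v₂) _ _ 0 a' rfl, reindex_pair (a ≫ v₂) _ _ 1 a rfl,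
        evK_res, evK_res] at h0
      change (1 : ℤ) • S.X₂.obj.map a'.op e + (-1 : ℤ) • S.X₂.obj.map a.op e = 0 at h0
      simp only [one_smul, neg_smul] at h0
      exact (sub_eq_zero.1 ((sub_eq_add_neg _ _).trans h0)).symm
  refine ⟨T₂, φ.g ≫ g₁, ?_, ⟨t₂, ?_⟩, i₂, ?_⟩
  · rw [Over.comp_left _ _ _ _ _]
    exact MorphismProperty.comp_mem @Etale _ _ het hu
  · rw [Over.comp_left _ _ _ _ _, Scheme.Hom.comp_apply, ht₂]
    exact huy.trans hp
  · refine (hcov₂.isSheafFor S.X₃).isSeparatedFor.ext fun Z f hf => ?_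
    obtain ⟨⟩ := hf
    change S.X₃.obj.map v₂.op (S.g.hom.app (op T₂) i₂) = S.X₃.obj.map v₂.op (S.X₃.obj.map _ q)
    refine (NatTrans.naturality_apply S.g.hom v₂.op i₂).symm.trans ?_
    refine (congrArg (S.g.hom.app (op V₂)) (hi₂ PUnit.unit)).trans ?_
    change evK (ψ' ≫ S.g.hom) s₀ = _
    simp only [ψ', Preadditive.sub_comp, Category.assoc, f_g, comp_zero, sub_zero]
    rw [φ.evK_kmap, hψg, map_map]
    exact map_congr _ (Category.assoc _ _ _) q

include hS in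
theorem LA_of [Injective S.X₂] (hG : LA S.X₁) : LA S.X₃ := by
  classical
  have hsurj := etSurj_of_LA hS hG
  intro T V v hv n c hc t
  obtain ⟨P, hP⟩ := exists_pow (v := v) (n + 2) @IsFinite hv.finite
  have : IsFinite P.π.left := hP
  obtain ⟨T₁, g₁, hg₁, ⟨t₁, ht₁⟩, i, hi⟩ := exists_lift_finite hsurj P.π (evK c P.univ) t
  let φ₁ := bc v g₁
  let ψ : Kn (bcMap v g₁) (n + 2) ⟶ S.X₂.obj := ofElemBC φ₁ P i
  have hψ : ψ ≫ S.g.hom = φ₁.kmap _ ≫ c := hom_ext_K fun Z s => by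
    obtain ⟨h, h₁, h₂⟩ := exists_bc_classify φ₁ P s
    rw [evK_comp, evK_ofElemBC φ₁ P i s h h₁ h₂, φ₁.evK_kmap, ← h₂, evK_res]
    refine (NatTrans.naturality_apply S.g.hom h.op i).trans ?_
    refine (congrArg (S.X₃.obj.map h.op) hi).trans ?_
    exact map_map _ _ _ _
  have hd : (dv (bcMap v g₁) (n + 1) ≫ ψ) ≫ S.g.hom = 0 := by
    rw [Category.assoc, hψ, ← φ₁.kmap_dv, hc, comp_zero]
  obtain ⟨a, ha⟩ := exists_lift_ker hS _ hd
  have ha0 : dv (bcMap v g₁) (n + 2) ≫ a = 0 := cancel_f hS _ (by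
    rw [Category.assoc, ha, ← Category.assoc]
    exact (congrArg (· ≫ ψ) (CechPsh.Nerve.d_comp_d (Uf := Uf (bcMap v g₁)) (n + 1))).trans
      zero_comp)
  obtain ⟨T₂, V₂, v₂, φ₂, hcov₂, het, ⟨t₂, ht₂⟩, b, hb⟩ :=
    hG T₁ _ (bcMap v g₁) (hv.bc g₁) (n + 1) a ha0 t₁
  let ψ₂ : Kn v₂ (n + 2) ⟶ S.X₂.obj := φ₂.kmap _ ≫ ψ - b ≫ S.f.hom
  have hd₂ : dv v₂ (n + 1) ≫ ψ₂ = 0 := by
    simp only [ψ₂, Preadditive.comp_sub]
    rw [← φ₂.kmap_dv, ← ha, reassoc_of% hb, sub_self]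
  have : Injective S.X₂.obj := Injective.injective_of_adjoint
    (sheafificationAdjunction (EtFppf.J X) AddCommGrpCat.{u + 1}) S.X₂
  let hex := CechPsh.Nerve.exact (Uf := Uf v₂) n
  let j : Kn v₂ (n + 1) ⟶ S.X₂.obj := hex.descToInjective ψ₂ hd₂
  have hj : dv v₂ n ≫ j = ψ₂ := hex.comp_descToInjective ψ₂ hd₂
  refine ⟨T₂, V₂, v₂, φ₁.comp φ₂, hcov₂, ?_, ⟨t₂, ?_⟩, j ≫ S.g.hom, ?_⟩
  · change Etale (φ₂.g ≫ g₁).left
    rw [Over.comp_left _ _ _ _ _]
    exact MorphismProperty.comp_mem @Etale _ _ het hg₁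
  · change (φ₂.g ≫ g₁).left.base t₂ = t
    rw [Over.comp_left _ _ _ _ _, Scheme.Hom.comp_apply, ht₂, ht₁]
  · rw [← Chg.kmap_comp, ← hψ, ← Category.assoc (dv v₂ n), hj]
    simp only [ψ₂, Preadditive.sub_comp, Category.assoc, f_g, comp_zero, sub_zero]

end Groth.Agent.Lib.FppfEt.LocAcyclic
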