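import Groth.Agent.Lib.FppfEt.Base
import Groth.Agent.Lib.FppfEt.Finite
import Groth.Agent.Lib.EtGerm.Unit

/-!
# Direct images along finite morphisms commute with the inverse image to a big site

Locally representable functions with values in a direct image along a finite morphism are the locally
representable functions on the base change.
-/

set_option autoImplicit false

universe u

open CategoryTheory CategoryTheory.Limits AlgebraicGeometry Opposite

noncomputable section

namespace Groth.Agent.Lib.FppfEt.PushIso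

open Groth.Agent.Lib.EtSite Groth.Agent.Lib.EtSite.Basic Groth.Agent.Lib.EtSite.PushStalk
  Groth.Agent.Lib.EtGerm.Basic Groth.Agent.Lib.EtGerm.Univ

variable {X Y : Scheme.{u}} (f : X ⟶ Y) (F : EtCoh.Ab X)

/-- The sheaf pushed forward. -/
abbrev pF : EtCoh.Ab Y := (EtCoh.push f).obj F

/-- Restriction of a germ of the direct image to a point above. -/
def gTo {Ω : Type u} [Field Ω] [IsSepClosed Ω] {η : Spec (CommRingCat.of Ω) ⟶ Y}
    {ξ : Spec (CommRingCat.of Ω) ⟶ X} (h : ξ ≫ f = η) : Stk (pF f F) η →+ Stk F ξ :=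
  ((germTo f AddCommGrpCat.{u + 1} h).app F).hom

theorem gTo_germ {Ω : Type u} [Field Ω] [IsSepClosed Ω] {η : Spec (CommRingCat.of Ω) ⟶ Y}
    {ξ : Spec (CommRingCat.of Ω) ⟶ X} (h : ξ ≫ f = η) (W : Y.Etale)
    (p : (Scheme.pointSmallEtale η).fiber.obj W) (a : (pF f F).obj.obj (op W)) :
    gTo f F h (germ (pF f F) η W p a) = germ F ξ ((EtCoh.bc f).obj W) (liftPt f h W p) a :=
  germTo_toPresheafFiber f h F W p a

variable (T : Over Y)

theorem fst_comm {Ω : Type u} [Field Ω] {ξ : Spec (CommRingCat.of Ω) ⟶ X}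
    {x : Spec (CommRingCat.of Ω) ⟶ ((Over.pullback f).obj T).left}
    (hx : x ≫ ((Over.pullback f).obj T).hom = ξ) :
    (x ≫ pullback.fst T.hom f) ≫ T.hom = ξ ≫ f :=
  (Category.assoc _ _ _).trans ((x ≫= pullback.condition).trans
    ((Category.assoc _ _ _).symm.trans (congrArg (· ≫ f) hx)))

/-- The function on the base change. -/
def toPull : Germs (pF f F) T →+ Germs F ((Over.pullback f).obj T) where
  toFun σ := fun x => gTo f F rfl (σ ⟨x.Ω, x.η ≫ f, x.ξ ≫ pullback.fst T.hom f, fst_comm f T x.comm⟩)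
  map_zero' := funext fun x => map_zero _
  map_add' σ τ := funext fun x => map_add _ _ _

theorem toPull_apply (σ : Germs (pF f F) T) {Ω : Type u} [Field Ω] [IsSepClosed Ω]
    {η : Spec (CommRingCat.of Ω) ⟶ Y} {ζ : Spec (CommRingCat.of Ω) ⟶ T.left} (hζ : ζ ≫ T.hom = η)
    {ξ : Spec (CommRingCat.of Ω) ⟶ X}
    {x : Spec (CommRingCat.of Ω) ⟶ ((Over.pullback f).obj T).left}
    (hx : x ≫ ((Over.pullback f).obj T).hom = ξ) (h : ξ ≫ f = η)
    (e : x ≫ pullback.fst T.hom f = ζ) :
    toPull f F T σ ⟨Ω, ξ, x, hx⟩ = gTo f F h (σ ⟨Ω, η, ζ, hζ⟩) := by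
  subst h; subst e; rfl

theorem isLocRep_toPull {σ : Germs (pF f F) T} (hσ : IsLocRep (pF f F) σ) :
    IsLocRep F (toPull f F T σ) := by
  intro τ
  obtain ⟨V, c, hc, W, b, hb, a, ⟨v, hv⟩, hrep⟩ := hσ ((pullback.fst T.hom f).base τ)
  let V' := pullback c (pullback.fst T.hom f)
  let c' : V' ⟶ ((Over.pullback f).obj T).left := pullback.snd c (pullback.fst T.hom f)
  let b' : V' ⟶ ((EtCoh.bc f).obj W).left :=
    pullback.lift (pullback.fst c (pullback.fst T.hom f) ≫ b) (c' ≫ pullback.snd T.hom f) (by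
      rw [Category.assoc, hb, Category.assoc, pullback.condition_assoc, pullback.condition])
  obtain ⟨z, -, hz⟩ := Scheme.Pullback.exists_preimage_pullback (f := c)
    (g := pullback.fst T.hom f) v τ hv
  refine ⟨V', c', (inferInstance : Etale (pullback.snd c (pullback.fst T.hom f))),
    (EtCoh.bc f).obj W, b', pullback.lift_snd _ _ _, a, ⟨z, hz⟩, fun Ω _ _ ξ x hx l hl => ?_⟩
  have hl' : (l ≫ pullback.fst c (pullback.fst T.hom f)) ≫ c = x ≫ pullback.fst T.hom f := by
    rw [Category.assoc, pullback.condition, ← Category.assoc]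
    exact congrArg (· ≫ pullback.fst T.hom f) hl
  refine (toPull_apply f F T σ (fst_comm f T hx) hx rfl rfl).trans ?_
  rw [hrep Ω _ _ (fst_comm f T hx) _ hl', gTo_germ]
  refine congrArg (fun r => germ F ξ ((EtCoh.bc f).obj W) r a)
    (Over.OverMorphism.ext (pullback.hom_ext ?_ ?_))
  · refine (pullback.lift_fst _ _ _).trans ?_
    refine Eq.trans ?_ (Category.assoc _ _ _).symm
    refine Eq.trans ?_ (l ≫= (pullback.lift_fst _ _ _).symm)
    exact Category.assoc _ _ _
  · refine (pullback.lift_snd _ _ _).trans ?_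
    refine Eq.trans ?_ (Category.assoc _ _ _).symm
    refine Eq.trans ?_ (l ≫= (pullback.lift_snd _ _ _).symm)
    exact hx.symm.trans ((congrArg (· ≫ pullback.snd T.hom f) hl.symm).trans (Category.assoc _ _ _))

/-- The map on sections. -/
def sectMap : sect (pF f F) T →+ sect F ((Over.pullback f).obj T) :=
  ((toPull f F T).comp (sect (pF f F) T).subtype).codRestrict _ fun σ => isLocRep_toPull f F T σ.2

theorem sectMap_natural {T' : Over Y} (g : T' ⟶ T) (σ : sect (pF f F) T) :
    sectMap f F T' ((presheaf (pF f F)).map g.op σ) =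
      (presheaf F).map ((Over.pullback f).map g).op (sectMap f F T σ) := by
  refine Subtype.ext (funext fun x => ?_)
  symm
  refine toPull_apply f F T σ.1 ?_ _ rfl ?_
  exact (Category.assoc _ _ _).trans ((_ ≫= pullback.lift_fst _ _ _).trans (Category.assoc _ _ _).symm)

variable [IsFinite f]

theorem sectMap_injective : Function.Injective (sectMap f F T) := by
  refine (injective_iff_map_eq_zero _).2 fun σ hσ => Subtype.ext (funext fun x => ?_)
  let Ω' := AlgebraicClosure x.Ω
  let φ : Spec (CommRingCat.of Ω') ⟶ Spec (CommRingCat.of x.Ω) :=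
    Spec.map (CommRingCat.ofHom (algebraMap x.Ω Ω'))
  let ζ := φ ≫ x.ξ
  let η := φ ≫ x.η
  have hζ : ζ ≫ T.hom = η := (Category.assoc _ _ _).trans (φ ≫= x.comm)
  refine extStk_injective (pF f F) φ (rfl : φ ≫ x.η = η) ?_
  rw [← IsLocRep.compatExt (pF f F) σ.2 x.Ω x.η x.ξ x.comm Ω' η φ rfl ζ hζ rfl]
  refine Eq.trans ?_ (map_zero _).symm
  refine (germTo_bijective f η F).1 (funext fun ξ => ?_)
  have hw : ζ ≫ T.hom = ξ.1 ≫ f := hζ.trans ξ.2.symm
  have h0 := congrFun (congrArg Subtype.val hσ) ⟨Ω', ξ.1, pullback.lift ζ ξ.1 hw, pullback.lift_snd _ _ _⟩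
  have h1 : toPull f F T σ.1 ⟨Ω', ξ.1, pullback.lift ζ ξ.1 hw, pullback.lift_snd _ _ _⟩ =
      gTo f F ξ.2 (σ.1 ⟨Ω', η, ζ, hζ⟩) :=
    toPull_apply f F T σ.1 hζ (pullback.lift_snd _ _ _) ξ.2 (pullback.lift_fst _ _ _)
  exact h1.symm.trans (h0.trans (map_zero (gTo f F ξ.2)).symm)

theorem exists_local (τ : sect F ((Over.pullback f).obj T)) (t : T.left) :
    ∃ (T' : Over Y) (g : T' ⟶ T) (σ : sect (pF f F) T'), Etale g.left ∧ t ∈ Set.range g.left.base ∧
      sectMap f F T' σ = (presheaf F).map ((Over.pullback f).map g).op τ := by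
  classical
  let α := Push.algPoint T.left t
  let Ω := AlgebraicClosure (T.left.residueField t)
  let η := α ≫ T.hom
  obtain ⟨z, hz⟩ := (germTo_bijective f η F).2 fun ξ =>
    τ.1 ⟨Ω, ξ.1, pullback.lift α ξ.1 ξ.2.symm, pullback.lift_snd _ _ _⟩
  obtain ⟨W, p, a, hwa⟩ := exists_germ (pF f F) z
  have : Etale W.hom := W.prop
  let T₁ : Over Y := Over.mk (pullback.fst T.hom W.hom ≫ T.hom)
  let g : T₁ ⟶ T := Over.homMk (pullback.fst T.hom W.hom) rfl
  let m : T₁ ⟶ (EtFppf.a Y).obj W :=
    Over.homMk (pullback.snd T.hom W.hom) pullback.condition.symm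
  let σ₁ : sect (pF f F) T₁ := (presheaf (pF f F)).map m.op (ofSection (pF f F) W a)
  let α₁ : Spec (CommRingCat.of Ω) ⟶ T₁.left := pullback.lift α (fiberHom p) (fiberHom_comp p).symm
  let τ₁ : sect F ((Over.pullback f).obj T₁) := (presheaf F).map ((Over.pullback f).map g).op τ
  let D : sect F ((Over.pullback f).obj T₁) := sectMap f F T₁ σ₁ - τ₁
  let π : ((Over.pullback f).obj T₁).left ⟶ T₁.left := pullback.fst T₁.hom f
  have : IsFinite π := (inferInstance : IsFinite (pullback.fst T₁.hom f))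
  have hα₁ : α₁ ≫ T₁.hom = η :=
    (Category.assoc _ _ _).symm.trans (congrArg (· ≫ T.hom) (pullback.lift_fst _ _ _))
  have hfib : ∀ w, π.base w = α₁.base default → ∃ x : GPt ((Over.pullback f).obj T₁),
      x.ξ.base default = w ∧ D.1 x = 0 := by
    intro w hw
    obtain ⟨y, hy, -⟩ := Scheme.Pullback.exists_preimage_pullback (f := π) (g := α₁) w default hw
    obtain ⟨q, hq₁, hq₂⟩ := FieldExt.exists_section_of_isIntegralHom (pullback.snd π α₁) y
    let x := q ≫ pullback.fst π α₁
    have hx : x ≫ π = α₁ := by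
      simp only [x, Category.assoc, pullback.condition]
      rw [← Category.assoc, hq₁, Category.id_comp]
    let ξ := x ≫ ((Over.pullback f).obj T₁).hom
    have hξ : ξ ≫ f = η :=
      (fst_comm f T₁ (rfl : x ≫ _ = ξ)).symm.trans ((congrArg (· ≫ T₁.hom) hx).trans hα₁)
    refine ⟨⟨Ω, ξ, x, rfl⟩, ((congrArg (pullback.fst π α₁).base hq₂).trans hy : _), ?_⟩
    change toPull f F T₁ σ₁.1 ⟨Ω, ξ, x, rfl⟩ - _ = 0
    rw [sub_eq_zero]
    refine (toPull_apply f F T₁ σ₁.1 hα₁ rfl hξ hx).trans ?_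
    change gTo f F hξ (germ (pF f F) η W _ a) = _
    have e : mkFiber η W (α₁ ≫ m.left) ((Category.assoc _ _ _).trans
        ((α₁ ≫= Over.w m).trans hα₁)) = p :=
      Over.OverMorphism.ext (pullback.lift_snd _ _ _)
    refine (congrArg (fun r => gTo f F hξ (germ (pF f F) η W r a)) e).trans ?_
    rw [hwa]
    refine (congrFun hz ⟨ξ, hξ⟩).trans ?_
    refine EtGerm.Glue.germs_congr F τ.1 (pullback.hom_ext ?_ ?_) _ _
    · refine (pullback.lift_fst _ _ _).trans ?_
      refine Eq.trans ?_ (Category.assoc _ _ _).symm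
      refine Eq.trans ?_ (x ≫= (pullback.lift_fst _ _ _).symm)
      refine Eq.trans ?_ (Category.assoc _ _ _)
      exact ((congrArg (· ≫ pullback.fst T.hom W.hom) hx).trans (pullback.lift_fst _ _ _)).symm
    · refine (pullback.lift_snd _ _ _).trans ?_
      refine Eq.trans ?_ (Category.assoc _ _ _).symm
      exact (x ≫= (pullback.lift_snd _ _ _).symm)
  let C : Set ((Over.pullback f).obj T₁).left :=
    (⋃₀ {O | IsOpen O ∧ ∀ x : GPt ((Over.pullback f).obj T₁), x.ξ.base default ∈ O → D.1 x = 0})ᶜ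
  have hC : IsClosed (π.base '' C) :=
    π.isClosedMap _ (isOpen_sUnion fun O hO => hO.1).isClosed_compl
  let N : T₁.left.Opens := ⟨_, hC.isOpen_compl⟩
  have htN : α₁.base default ∈ N := by
    rintro ⟨w, hwC, hw⟩
    obtain ⟨x, hxw, hx⟩ := hfib w hw
    obtain ⟨O, hO, hxO, hO'⟩ := Base.exists_open_zero F D x hx
    exact hwC (Set.mem_sUnion.2 ⟨O, ⟨hO, hO'⟩, hxw ▸ hxO⟩)
  let T₂ : Over Y := Over.mk (N.ι ≫ T₁.hom)
  let g₂ : T₂ ⟶ T₁ := Over.homMk N.ι rfl
  refine ⟨T₂, g₂ ≫ g, (presheaf (pF f F)).map g₂.op σ₁, ?_,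
    ⟨(⟨α₁.base default, htN⟩ : N), ?_⟩, ?_⟩
  · rw [Over.comp_left _ _ _ _ _]
    exact (inferInstance : Etale (N.ι ≫ pullback.fst T.hom W.hom))
  · rw [Over.comp_left _ _ _ _ _]
    exact (congrArg (fun k => k.base default) (pullback.lift_fst _ _ _ : α₁ ≫ g.left = α)).trans
      (Push.algPoint_apply _ t default)
  · rw [sectMap_natural]
    refine Eq.trans ?_ (map_map (presheaf F) ((Over.pullback f).map g₂) ((Over.pullback f).map g) τ |>.trans
      (congrArg (fun k => (presheaf F).map (Quiver.Hom.op k) τ) ((Over.pullback f).map_comp g₂ g).symm))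
    refine sub_eq_zero.1 ((map_sub ((presheaf F).map ((Over.pullback f).map g₂).op).hom
      (sectMap f F T₁ σ₁) τ₁).symm.trans ?_)
    refine Subtype.ext (funext fun x => ?_)
    change D.1 ⟨x.Ω, x.η, x.ξ ≫ ((Over.pullback f).map g₂).left, _⟩ = 0
    by_contra hne
    have hmem : π.base ((x.ξ ≫ ((Over.pullback f).map g₂).left).base default) ∈ N := by
      have e : ((Over.pullback f).map g₂).left ≫ π = pullback.fst T₂.hom f ≫ N.ι :=
        pullback.lift_fst _ _ _
      have e' := congrArg (fun k => k.base (x.ξ.base default)) e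
      change π.base (((Over.pullback f).map g₂).left.base (x.ξ.base default)) =
        N.ι.base _ at e'
      exact e'.symm ▸ ((pullback.fst T₂.hom f).base (x.ξ.base default) : N).2
    refine hmem ⟨_, fun hU => ?_, rfl⟩
    obtain ⟨O, ⟨-, hO⟩, hxO⟩ := Set.mem_sUnion.1 hU
    exact hne (hO _ hxO)

variable (K : Precoverage Scheme.{u}) (hK₁ : Scheme.etalePrecoverage ≤ K)
  (hK₂ : K ≤ Scheme.fpqcPrecoverage)

omit [IsFinite f] in
/-- The morphism of sheaves. -/
def hom : shP K (pF f F) hK₂ ⟶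
    (BigSite.pushBig K f AddCommGrpCat.{u + 1}).obj (shP K F hK₂) :=
  Sheaf.homEquiv.symm
    { app := fun T => AddCommGrpCat.ofHom (sectMap f F T.unop)
      naturality := fun T T' g => AddCommGrpCat.hom_ext (AddMonoidHom.ext fun σ =>
        sectMap_natural f F T.unop g.unop σ) }

variable [BigSite.AEtCont K Y] [BigSite.AEtCont K X]

include hK₁ hK₂ in
theorem sectMap_surjective (T : Over Y) : Function.Surjective (sectMap f F T) := by
  classical
  intro τ
  choose T' g σ hg hmem hσ using exists_local f F T τ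
  let L := shP K (pF f F) hK₂
  let ι : Type (u + 1) := ULift.{u + 1} T.left
  have hS := (Presieve.isSheafFor_arrows_iff (L.obj ⋙ forget AddCommGrpCat.{u + 1})
    (fun t : ι => g t.down)).1 ((Presieve.isSheafFor_iff_generate _).2
      (((isSheaf_iff_isSheaf_of_type _ _).1 (Presheaf.isSheaf_comp_of_isSheaf _ L.obj
        (forget AddCommGrpCat.{u + 1}) L.property)) _
        (ofArrows_mem K hK₁ (fun t : ι => T' t.down) _ (fun t => hg t.down)
          fun t => ⟨⟨t⟩, hmem t⟩)))
  obtain ⟨s, hs, -⟩ := hS (fun t => σ t.down) fun i j Z gi gj e => by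
    refine sectMap_injective f F Z ?_
    change sectMap f F Z ((presheaf (pF f F)).map gi.op (σ i.down)) =
      sectMap f F Z ((presheaf (pF f F)).map gj.op (σ j.down))
    rw [sectMap_natural, sectMap_natural, hσ, hσ]
    refine (map_map (presheaf F) _ _ τ).trans (Eq.trans ?_ (map_map (presheaf F) _ _ τ).symm)
    refine congrArg (fun k => (presheaf F).map (Quiver.Hom.op k) τ) ?_
    rw [← Functor.map_comp, ← Functor.map_comp]
    exact congrArg ((Over.pullback f).map ·) e
  refine ⟨s, ?_⟩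
  refine sections_ext K hK₁ (shP K F hK₂) (fun t : ι => (Over.pullback f).obj (T' t.down))
    (fun t => (Over.pullback f).map (g t.down))
    (fun t => MorphismProperty.overPullbackMap f (g t.down) (hg t.down)) (fun w => ?_) _ _ fun t => ?_
  · let P := pullback.fst T.hom f
    obtain ⟨v, hv⟩ := hmem (P.base w)
    let gl := (g (P.base w)).left
    obtain ⟨z, -, hz⟩ := Scheme.Pullback.exists_preimage_pullback (f := gl) (g := P) v w hv
    let m : pullback gl P ⟶ ((Over.pullback f).obj (T' (P.base w))).left :=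
      pullback.lift (pullback.fst gl P) (pullback.snd gl P ≫ pullback.snd T.hom f) (by
        rw [← Over.w (g (P.base w)), pullback.condition_assoc, Category.assoc]
        exact (_ ≫= pullback.condition))
    refine ⟨⟨P.base w⟩, m.base z, ?_⟩
    refine Eq.trans ?_ hz
    refine congrArg (fun k => k.base z) (show m ≫ ((Over.pullback f).map (g (P.base w))).left =
      pullback.snd gl P from pullback.hom_ext ?_ ?_)
    · refine (Category.assoc _ _ _).trans ((m ≫= pullback.lift_fst _ _ _).trans ?_)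
      refine (Category.assoc _ _ _).symm.trans ((congrArg (· ≫ gl) (pullback.lift_fst _ _ _)).trans ?_)
      exact pullback.condition
    · refine (Category.assoc _ _ _).trans ((m ≫= pullback.lift_snd _ _ _).trans ?_)
      exact pullback.lift_snd _ _ _
  · exact (sectMap_natural f F T (g t.down) s).symm.trans
      ((congrArg (sectMap f F _) (hs t)).trans (hσ t.down))

include hK₁ in
theorem isIso_hom : IsIso (hom f F K hK₂) := by
  have : ∀ T, IsIso ((hom f F K hK₂).hom.app T) := fun T =>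
    (ConcreteCategory.isIso_iff_bijective _).2
      ⟨sectMap_injective f F T.unop, sectMap_surjective f F K hK₁ hK₂ T.unop⟩
  have : IsIso ((sheafToPresheaf (QuotSh.J K Y) AddCommGrpCat.{u + 1}).map (hom f F K hK₂)) :=
    NatIso.isIso_of_isIso_app (hom f F K hK₂).hom
  exact isIso_of_reflects_iso (hom f F K hK₂) (sheafToPresheaf _ _)

include hK₁ hK₂ in
/-- Direct images along finite morphisms commute with the inverse image to a big site. -/
theorem nonempty_iso : Nonempty ((BigSite.piEtPull K Y).obj ((EtCoh.push f).obj F) ≅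
    (BigSite.pushBig K f AddCommGrpCat.{u + 1}).obj ((BigSite.piEtPull K X).obj F)) :=
  have := isIso_hom f F K hK₁ hK₂
  have := EtGerm.Univ.isIso_comp K (pF f F) hK₁ hK₂
  have := EtGerm.Univ.isIso_comp K F hK₁ hK₂
  ⟨asIso (comp K (pF f F) hK₂) ≪≫ asIso (hom f F K hK₂) ≪≫
    ((BigSite.pushBig K f AddCommGrpCat.{u + 1}).mapIso (asIso (comp K F hK₂))).symm⟩

end Groth.Agent.Lib.FppfEt.PushIso
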