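import Groth.Agent.Lib.FppfEt.Base
import Mathlib.CategoryTheory.Abelian.RightDerived

/-!
# Injective resolutions on big sites that are exact etale locally

For the fppf topology and an inverse image from the small etale site, cocycles of an injective
resolution are coboundaries etale locally.
-/

set_option autoImplicit false

universe u

open CategoryTheory CategoryTheory.Limits AlgebraicGeometry Opposite

noncomputable section

namespace Groth.Agent.Lib.FppfEt.Resolution

open Groth.Agent.Lib.FppfEt.Nerve Groth.Agent.Lib.FppfEt.LocAcyclic Groth.Agent.Lib.EtGerm.Univ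

variable {K : Precoverage Scheme.{u}} {X : Scheme.{u}}

/-- Surjectivity on sections etale locally. -/
def LocSurj {A B : BigSite.Ab K X} (φ : A ⟶ B) : Prop :=
  ∀ (T : Over X) (q : B.obj.obj (op T)) (t : T.left), ∃ (T' : Over X) (g : T' ⟶ T),
    Etale g.left ∧ t ∈ Set.range g.left.base ∧
      ∃ i : A.obj.obj (op T'), φ.hom.app (op T') i = B.obj.map g.op q

variable {G : BigSite.Ab K X} (R : InjectiveResolution G)

/-- The truncation of a resolution at one degree. -/
def stage (k : ℕ) : ShortComplex (BigSite.Ab K X) :=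
  ShortComplex.mk (kernel.ι (R.cocomplex.d k (k + 1)))
    (kernel.lift (R.cocomplex.d (k + 1) (k + 2)) (R.cocomplex.d k (k + 1))
      (R.cocomplex.d_comp_d _ _ _))
    (by rw [← cancel_mono (kernel.ι (R.cocomplex.d (k + 1) (k + 2))), Category.assoc,
      kernel.lift_ι, zero_comp, kernel.condition])

theorem shortExact_stage (k : ℕ) : (stage R k).ShortExact := by
  have : Epi (stage R k).g := (ShortComplex.exact_iff_epi_kernel_lift _).1 (R.exact_succ k)
  have : Mono (stage R k).f := inferInstanceAs (Mono (kernel.ι _))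
  refine ShortComplex.ShortExact.mk' (ShortComplex.exact_of_f_is_kernel _ ?_) ‹_› ‹_›
  refine KernelFork.IsLimit.ofι _ _
    (fun {A} a ha => kernel.lift (R.cocomplex.d k (k + 1)) a (by
      have h := (congrArg (· ≫ kernel.ι (R.cocomplex.d (k + 1) (k + 2))) ha).trans zero_comp
      simpa [stage] using h))
    (fun {A} a ha => kernel.lift_ι _ _ _) fun {A} a ha m hm => ?_
  exact (cancel_mono (kernel.ι (R.cocomplex.d k (k + 1)))).1 (hm.trans (kernel.lift_ι _ _ _).symm)

/-- The object resolved is the first kernel. -/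
def stageZeroIso : G ≅ (stage R 0).X₁ :=
  IsLimit.conePointUniqueUpToIso R.isLimitKernelFork (limit.isLimit _)

/-- Cocycles are coboundaries etale locally. -/
theorem exists_coboundary (h : ∀ k, LocSurj (stage R k).g) (k : ℕ) (T : Over X)
    (x : (R.cocomplex.X (k + 1)).obj.obj (op T))
    (hx : (R.cocomplex.d (k + 1) (k + 2)).hom.app (op T) x = 0) (t : T.left) :
    ∃ (T' : Over X) (g : T' ⟶ T), Etale g.left ∧ t ∈ Set.range g.left.base ∧
      ∃ i : (R.cocomplex.X k).obj.obj (op T'),
        (R.cocomplex.d k (k + 1)).hom.app (op T') i = (R.cocomplex.X (k + 1)).obj.map g.op x := by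
  obtain ⟨y, hy⟩ := exists_kernel_app (R.cocomplex.d (k + 1) (k + 2)) x hx
  obtain ⟨T', g, hg, hr, i, hi⟩ := h k T y t
  refine ⟨T', g, hg, hr, i, ?_⟩
  have e := congrArg ((kernel.ι (R.cocomplex.d (k + 1) (k + 2))).hom.app (op T')) hi
  refine Eq.trans ?_ (e.trans ((NatTrans.naturality_apply
    (kernel.ι (R.cocomplex.d (k + 1) (k + 2))).hom g.op y).trans (congrArg _ hy)))
  exact (ConcreteCategory.congr_hom (congrArg (fun m => m.hom.app (op T'))
    (kernel.lift_ι _ _ (R.cocomplex.d_comp_d k (k + 1) (k + 2)))) i).symm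
where
  exists_kernel_app {A B : BigSite.Ab K X} (f : A ⟶ B) {T : Over X} (x : A.obj.obj (op T))
      (hx : f.hom.app (op T) x = 0) :
      ∃ y : (kernel f).obj.obj (op T), (kernel.ι f).hom.app (op T) y = x := by
    let F := sheafToPresheaf (QuotSh.J K X) AddCommGrpCat.{u + 1} ⋙
      (evaluation _ AddCommGrpCat.{u + 1}).obj (op T)
    have hl : IsLimit (KernelFork.ofι (F.map (kernel.ι f)) (by
        rw [← F.map_comp, kernel.condition]; rfl) : KernelFork (F.map f)) :=
      isLimitForkMapOfIsLimit' F (kernel.condition f) (kernelIsKernel f)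
    let S := ShortComplex.mk (F.map (kernel.ι f)) (F.map f)
      (by rw [← F.map_comp, kernel.condition]; rfl)
    exact S.ab_exact_iff.1 (ShortComplex.exact_of_f_is_kernel S hl) x hx

/-- For the fppf topology, the inverse image of a sheaf on the small etale site satisfies the
hypothesis. -/
theorem la_of_iso {A B : EtFppf.AbF X} (e : A ≅ B) (h : LA A) : LA B := by
  intro T V v hv n c hc t
  obtain ⟨T', V', v', φ, hv', he, hr, b, hb⟩ := h T V v hv n (c ≫ e.inv.hom)
    (by rw [← Category.assoc, hc, zero_comp]) t
  refine ⟨T', V', v', φ, hv', he, hr, b ≫ e.hom.hom, ?_⟩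
  have h1 : e.inv.hom ≫ e.hom.hom = 𝟙 _ := congrArg (fun m => m.hom) e.inv_hom_id
  rw [← Category.assoc (dv v' n), ← hb]
  simp only [Category.assoc, h1, Category.comp_id]

theorem locSurj_stage {G : EtFppf.AbF X} (R : InjectiveResolution G) (hG : LA G) (k : ℕ) :
    LocSurj (stage (K := Scheme.fppfPrecoverage) R k).g := by
  have key : ∀ k, LA (stage (K := Scheme.fppfPrecoverage) R k).X₁ := by
    intro k
    induction k with
    | zero => exact la_of_iso (stageZeroIso (K := Scheme.fppfPrecoverage) R) hG
    | succ k ih =>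
      have : Injective (stage (K := Scheme.fppfPrecoverage) R k).X₂ := R.injective k
      exact LA_of (shortExact_stage R k) ih
  have : Injective (stage (K := Scheme.fppfPrecoverage) R k).X₂ := R.injective k
  exact etSurj_of_LA (shortExact_stage R k) (key k)

end Groth.Agent.Lib.FppfEt.Resolution
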