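import Groth.Agent.Lib.FppfEt.Resolution
import Groth.Agent.Lib.EtGerm.Unit

/-!
# Higher direct images from big sites to the small etale site
-/

set_option autoImplicit false

universe u

open CategoryTheory CategoryTheory.Limits AlgebraicGeometry Opposite

noncomputable section

namespace Groth.Agent.Lib.FppfEt.Vanish

open Groth.Agent.Lib.FppfEt.Resolution

variable {K : Precoverage Scheme.{u}} {X : Scheme.{u}} [BigSite.AEtCont K X]

theorem exactAt_resEt {G : BigSite.Ab K X} (R : InjectiveResolution G)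
    (h : ∀ k, LocSurj (stage R k).g) (k : ℕ) :
    (((BigSite.resEt K X).mapHomologicalComplex (ComplexShape.up ℕ)).obj R.cocomplex).ExactAt
      (k + 1) := by
  rw [HomologicalComplex.exactAt_iff' _ k (k + 1) (k + 2) (by simp) (by simp),
    ShortComplex.exact_iff_epi_kernel_lift]
  let a : (BigSite.resEt K X).obj (R.cocomplex.X k) ⟶ (BigSite.resEt K X).obj (R.cocomplex.X (k + 1)) :=
    (BigSite.resEt K X).map (R.cocomplex.d k (k + 1))
  let b : (BigSite.resEt K X).obj (R.cocomplex.X (k + 1)) ⟶
      (BigSite.resEt K X).obj (R.cocomplex.X (k + 2)) :=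
    (BigSite.resEt K X).map (R.cocomplex.d (k + 1) (k + 2))
  have hab : a ≫ b = 0 := by
    rw [← Functor.map_comp, R.cocomplex.d_comp_d, Functor.map_zero]
  change Epi (kernel.lift b a hab)
  have : Sheaf.IsLocallySurjective (kernel.lift b a hab) := ⟨fun {U} y => by
    refine (EtSite.Basic.mem_topology_iff _).2 fun u => ?_
    let x : (R.cocomplex.X (k + 1)).obj.obj (op ((EtFppf.a X).obj U)) :=
      (kernel.ι b).hom.app (op U) y
    have hx : (R.cocomplex.d (k + 1) (k + 2)).hom.app (op ((EtFppf.a X).obj U)) x = 0 :=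
      ConcreteCategory.congr_hom (congrArg (fun m => m.hom.app (op U)) (kernel.condition b)) y
    obtain ⟨T', g, hg, ⟨v, hv⟩, i, hi⟩ := exists_coboundary R h k ((EtFppf.a X).obj U) x hx u
    let g₀ : T'.left ⟶ U.left := g.left
    have : Etale g₀ := hg
    have : Etale U.hom := U.prop
    have hT : Etale T'.hom := by
      have e : g₀ ≫ U.hom = T'.hom := Over.w g
      exact e ▸ (inferInstance : Etale (g₀ ≫ U.hom))
    let V : X.Etale := Scheme.Etale.mk T'.hom
    let q : V ⟶ U := MorphismProperty.Over.homMk g₀ (Over.w g)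
    refine ⟨V, q, ⟨i, ?_⟩, v, hv⟩
    have : Mono (kernel.ι b).hom :=
      inferInstanceAs (Mono ((sheafToPresheaf _ _).map (kernel.ι b)))
    refine (AddCommGrpCat.mono_iff_injective ((kernel.ι b).hom.app (op V))).1 inferInstance ?_
    refine Eq.trans ?_ (NatTrans.naturality_apply (kernel.ι b).hom q.op y).symm
    refine Eq.trans ?_ hi
    exact ConcreteCategory.congr_hom (congrArg (fun m => m.hom.app (op V)) (kernel.lift_ι b a hab)) i⟩
  exact (Sheaf.isLocallySurjective_iff_epi' _ _).1 this

theorem isZero_rightDerived {G : BigSite.Ab K X} (R : InjectiveResolution G)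
    (h : ∀ k, LocSurj (stage R k).g) (q : ℕ) (hq : 0 < q) :
    IsZero (((BigSite.resEt K X).rightDerived q).obj G) := by
  obtain ⟨k, rfl⟩ := Nat.exists_eq_succ_of_ne_zero hq.ne'
  exact (exactAt_resEt R h k).isZero_homology.of_iso (R.isoRightDerivedObj (BigSite.resEt K X) (k + 1))

/-- The hypothesis holds for inverse images to the fppf site. -/
theorem locSurj_aPull (X : Scheme.{u}) [EtFppf.ACont X] (F : EtCoh.Ab X)
    (R : InjectiveResolution ((EtFppf.aPull X).obj F)) (k : ℕ) :
    LocSurj (stage (K := Scheme.fppfPrecoverage) R k).g := by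
  haveI : BigSite.AEtCont Scheme.fppfPrecoverage X := ‹EtFppf.ACont X›
  have := EtGerm.Univ.isIso_comp Scheme.fppfPrecoverage F
    BigSite.etalePrecoverage_le_fppfPrecoverage Scheme.fppfPrecoverage_le_fpqcPrecoverage
  exact locSurj_stage R (la_of_iso (asIso (EtGerm.Univ.comp Scheme.fppfPrecoverage F
    Scheme.fppfPrecoverage_le_fpqcPrecoverage)).symm (Base.la_PF F)) k

end Groth.Agent.Lib.FppfEt.Vanish
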