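import Groth.Agent.Lib.FppfEt.PushIso
import Groth.Agent.Lib.FppfEt.Vanish
import Groth.Agent.Lib.EtSite.Push

/-!
# Higher direct images along finite morphisms and inverse images to big sites
-/

set_option autoImplicit false

universe u

open CategoryTheory CategoryTheory.Limits AlgebraicGeometry Opposite

noncomputable section

namespace Groth.Agent.Lib.FppfEt.RpushFinite

variable (K : Precoverage Scheme.{u}) {X Y : Scheme.{u}} (f : X ⟶ Y) [IsFinite f]
  [BigSite.AEtCont K X] [BigSite.AEtCont K Y]

/-- Higher direct images along a finite morphism commute with the inverse image to a big site, if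
cocycles of injective resolutions of inverse images are coboundaries etale locally. -/
theorem nonempty_iso (hK₁ : Scheme.etalePrecoverage ≤ K) (hK₂ : K ≤ Scheme.fpqcPrecoverage)
    (F : EtCoh.Ab X)
    (h : ∀ (R : InjectiveResolution ((BigSite.piEtPull K X).obj F)) (k : ℕ),
      Resolution.LocSurj (Resolution.stage R k).g) (q : ℕ) :
    Nonempty ((BigSite.piEtPull K Y).obj ((EtCoh.Rpush f q).obj F) ≅
      (BigSite.RpushBig K f q).obj ((BigSite.piEtPull K X).obj F)) := by
  cases q with
  | zero =>
    have : PreservesLimitsOfSize.{0, 0} (EtCoh.push f) :=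
      (EtCoh.pullPushAdj f).rightAdjoint_preservesLimits
    have : PreservesLimitsOfSize.{0, 0} (BigSite.pushBig K f AddCommGrpCat.{u + 1}) :=
      (BigSite.bigAdj K f AddCommGrpCat.{u + 1}).rightAdjoint_preservesLimits
    obtain ⟨e⟩ := PushIso.nonempty_iso f F K hK₁ hK₂
    exact ⟨(BigSite.piEtPull K Y).mapIso ((EtCoh.push f).rightDerivedZeroIsoSelf.app F) ≪≫ e ≪≫
      ((BigSite.pushBig K f AddCommGrpCat.{u + 1}).rightDerivedZeroIsoSelf.app _).symm⟩
  | succ k =>
    have : (BigSite.piEtPull K Y).Additive := (BigSite.piEtAdj K Y).left_adjoint_additive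
    let R := injectiveResolution ((BigSite.piEtPull K X).obj F)
    exact ⟨((BigSite.piEtPull K Y).map_isZero
      (EtSite.Push.isZero_Rpush f F (k + 1) k.succ_pos)).iso
      (Finite.isZero_Rpush f hK₁ R (h R) (k + 1) k.succ_pos)⟩

end Groth.Agent.Lib.FppfEt.RpushFinite
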